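import Cfsg.Agent.H643.Sd.Def
import Cfsg.Agent.H809.GL3.Mack
import Cfsg.Agent.H30.OneClass
import Cfsg.Agent.OddOrderCharacters.IndRes

/-!
# S4579: good characters induced from linear characters (helper755)

`hasGood_of_lin` : `P ≥ Q`, `l` a linear character of `P` of 2-power order, `A`-invariant on `Q`, not agreeing with its
conjugates by elements outside `P` nor with the conjugates of `l⁻¹`: the induced character is good.
-/

set_option autoImplicit false

open scoped ComplexConjugate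

namespace Cfsg.Agent.H755.Sd

open Cfsg Cfsg.Agent.H643.Sd
open Cfsg.Agent.OddOrderCharacters.Clifford Cfsg.Agent.Characters Cfsg.Agent.H246.Dl Cfsg.Agent.H809.GL3
open Cfsg.Agent.CharactersDeep.MackeyLinear (mul_conj_hom isIrrCharacter_indFun)

universe u

variable {S : Type u} [Group S] [Finite S]

/-- a linear character of 2-power order trivial on a subgroup of odd index -/
theorem eq_one_of_odd {H : Type*} [Group H] {K : Subgroup H} (hK : Odd K.index) (l : H →* ℂˣ)
    (hl : ∀ x, ∃ k : ℕ, l x ^ 2 ^ k = 1) (h : ∀ x ∈ K, l x = 1) (x : H) : l x = 1 := by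
  have h1 : K ≤ l.ker := fun y hy => h y hy
  have h2 : Odd l.ker.index := hK.of_dvd_nat (Subgroup.index_dvd_of_le h1)
  have h3 : x ^ l.ker.index ∈ l.ker := Subgroup.pow_index_mem _ _
  have h4 : l x ^ l.ker.index = 1 := by rw [← map_pow]; exact h3
  obtain ⟨k, hk⟩ := hl x
  have h5 := Nat.dvd_gcd (orderOf_dvd_of_pow_eq_one h4) (orderOf_dvd_of_pow_eq_one hk)
  rw [(Nat.Coprime.pow_right k (Nat.coprime_two_right.2 h2)), Nat.dvd_one, orderOf_eq_one_iff] at h5
  exact h5

/-- two linear characters agreeing at `x = 1` induce non-orthogonal characters -/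
theorem inner_ne_zero [Fintype S] (P P' : Subgroup S) (l : P →* ℂˣ) (l' : P' →* ℂˣ)
    (h : ∀ (x : S) (hx : x ∈ P) (hx' : x ∈ P'), l ⟨x, hx⟩ = l' ⟨x, hx'⟩) :
    classInner (indFun P fun t => (l t : ℂ)) (indFun P' fun t => (l' t : ℂ)) ≠ 0 := by
  classical
  have : Fintype P := Fintype.ofFinite P
  rw [inner_tw]
  have hP : (Nat.card P : ℂ) ≠ 0 := by exact_mod_cast Nat.card_pos.ne'
  have hP' : (Nat.card P' : ℂ) ≠ 0 := by exact_mod_cast Nat.card_pos.ne'
  refine mul_ne_zero (inv_ne_zero hP) (mul_ne_zero (inv_ne_zero hP') ?_)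
  let n : S → ℕ := fun x => if Agr P P' l l' x then Nat.card {t : P // x⁻¹ * t * x ∈ P'} else 0
  have h1 : ∀ x : S, tw P P' (fun t => (l t : ℂ)) (fun t => (l' t : ℂ)) x = (n x : ℂ) := by
    intro x
    by_cases hx : Agr P P' l l' x
    · simp only [n, if_pos hx]
      exact tw_agr P P' l l' hx
    · simp only [n, if_neg hx, Nat.cast_zero]
      exact tw_not_agr P P' l l' hx
  rw [Finset.sum_congr rfl fun x _ => h1 x, ← Nat.cast_sum]
  have h2 : Agr P P' l l' 1 := by
    intro t ht
    have e : (1 : S)⁻¹ * t * 1 = t := by group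
    have h3 : (⟨(1 : S)⁻¹ * t * 1, ht⟩ : P') = ⟨t, by rw [← e]; exact ht⟩ := Subtype.ext e
    rw [h3]
    exact h t t.2 _
  have h3 : n 1 ≠ 0 := by
    simp only [n, if_pos h2]
    have : Nonempty {t : P // (1 : S)⁻¹ * t * 1 ∈ P'} := ⟨⟨1, by simp⟩⟩
    exact Nat.card_pos.ne'
  have h4 : 0 < ∑ x : S, n x :=
    Finset.sum_pos' (fun x _ => Nat.zero_le _) ⟨1, Finset.mem_univ _, Nat.pos_of_ne_zero h3⟩
  exact_mod_cast h4.ne'

/-- no agreement: orthogonal -/
theorem inner_eq_zero [Fintype S] (P P' : Subgroup S) (l : P →* ℂˣ) (l' : P' →* ℂˣ)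
    (h : ∀ x : S, ∃ (t : P) (hx : x⁻¹ * t * x ∈ P'), l t ≠ l' ⟨x⁻¹ * t * x, hx⟩) :
    classInner (indFun P fun t => (l t : ℂ)) (indFun P' fun t => (l' t : ℂ)) = 0 := by
  classical
  have : Fintype P := Fintype.ofFinite P
  rw [inner_tw]
  have h1 : ∀ x : S, tw P P' (fun t => (l t : ℂ)) (fun t => (l' t : ℂ)) x = 0 := by
    intro x
    refine tw_not_agr P P' l l' fun hx => ?_
    obtain ⟨t, ht, hne⟩ := h x
    exact hne (hx t ht)
  rw [Finset.sum_congr rfl fun x _ => h1 x, Finset.sum_const_zero, mul_zero, mul_zero]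

omit [Finite S] in
/-- transport by an automorphism -/
theorem indFun_comp [Fintype S] (a : MulAut S) (P : Subgroup S) (l : P →* ℂˣ) (g : S) :
    indFun (P.comap (a : S ≃* S).toMonoidHom) (fun t => ((l.comp ((a : S ≃* S).toMonoidHom.subgroupComap P)) t : ℂ)) g =
      indFun P (fun t => (l t : ℂ)) (a g) := by
  classical
  rw [indFun_apply, indFun_apply]
  have hc : Nat.card (P.comap (a : S ≃* S).toMonoidHom) = Nat.card P := by
    refine Nat.card_congr ⟨fun t => ⟨a t, t.2⟩, fun t => ⟨a.symm t, ?_⟩, ?_, ?_⟩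
    · change a (a.symm t) ∈ P
      rw [MulEquiv.apply_symm_apply]
      exact t.2
    · intro t; apply Subtype.ext; exact MulEquiv.symm_apply_apply a _
    · intro t; apply Subtype.ext; exact MulEquiv.apply_symm_apply a _
  rw [hc]
  congr 1
  rw [← Equiv.sum_comp (a : S ≃* S).toEquiv (fun x => extendByZero P (fun t => (l t : ℂ)) (x⁻¹ * a g * x))]
  refine Finset.sum_congr rfl fun x _ => ?_
  change _ = extendByZero P (fun t => (l t : ℂ)) ((a x)⁻¹ * a g * a x)
  rw [← map_inv, ← map_mul, ← map_mul]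
  by_cases hx : x⁻¹ * g * x ∈ P.comap (a : S ≃* S).toMonoidHom
  · have hx' : a (x⁻¹ * g * x) ∈ P := hx
    rw [ext_apply_mem _ _ _ hx, ext_apply_mem P _ _ hx']
    rfl
  · have hx' : a (x⁻¹ * g * x) ∉ P := hx
    rw [ext_apply_not_mem _ _ _ hx, ext_apply_not_mem P _ _ hx']

omit [Finite S] in
/-- values at elements of odd order -/
theorem re_nonneg [Fintype S] (P : Subgroup S) (l : P →* ℂˣ) (hl : ∀ x, ∃ k : ℕ, l x ^ 2 ^ k = 1) {g : S}
    (hg : ¬ 2 ∣ orderOf g) : ∃ r : ℝ, 0 ≤ r ∧ indFun P (fun t => (l t : ℂ)) g = r := by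
  classical
  let m : ℕ := (Finset.univ.filter fun x : S => x⁻¹ * g * x ∈ P).card
  refine ⟨(Nat.card P : ℝ)⁻¹ * m, by positivity, ?_⟩
  rw [indFun_apply]
  push_cast
  congr 1
  have h1 : ∀ x : S, extendByZero P (fun t => (l t : ℂ)) (x⁻¹ * g * x) = if x⁻¹ * g * x ∈ P then 1 else 0 := by
    intro x
    split_ifs with hx
    · rw [ext_apply_mem P _ _ hx]
      have h2 : l ⟨x⁻¹ * g * x, hx⟩ = 1 := by
        obtain ⟨k, hk⟩ := hl ⟨x⁻¹ * g * x, hx⟩
        have h3 : l ⟨x⁻¹ * g * x, hx⟩ ^ orderOf g = 1 := by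
          rw [← map_pow]
          have h4 : (⟨x⁻¹ * g * x, hx⟩ : P) ^ orderOf g = 1 := by
            apply Subtype.ext
            change (x⁻¹ * g * x) ^ orderOf g = 1
            have h5 := conj_pow (a := x⁻¹) (b := g) (i := orderOf g)
            rw [inv_inv] at h5
            rw [h5, pow_orderOf_eq_one]
            group
          rw [h4, map_one]
        have h5 := Nat.dvd_gcd (orderOf_dvd_of_pow_eq_one h3) (orderOf_dvd_of_pow_eq_one hk)
        have h6 : Nat.Coprime (orderOf g) (2 ^ k) :=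
          Nat.Coprime.pow_right k ((Nat.Prime.coprime_iff_not_dvd Nat.prime_two).2 hg).symm
        rw [h6, Nat.dvd_one, orderOf_eq_one_iff] at h5
        exact h5
      rw [h2, Units.val_one]
    · rw [ext_apply_not_mem P _ _ hx]
  rw [Finset.sum_congr rfl fun x _ => h1 x, Finset.sum_boole]

/-- **Good characters from linear characters.** -/
theorem hasGood_of_lin {M : Ideal AlgInt} (hM : IsPModular 2 M) {Q : Sylow 2 S} {A : Subgroup (MulAut S)}
    (c : Ctx Q A) (P : Subgroup S) (hQP : (Q : Subgroup S) ≤ P) (l : P →* ℂˣ) (hl : ∀ x, ∃ k : ℕ, l x ^ 2 ^ k = 1)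
    (hirr : ∀ x : S, x ∉ P → ∃ (t : P) (hx : x⁻¹ * t * x ∈ P), l t ≠ l ⟨x⁻¹ * t * x, hx⟩)
    (hreal : ∀ x : S, ∃ (t : P) (hx : x⁻¹ * t * x ∈ P), l t ≠ (l ⟨x⁻¹ * t * x, hx⟩)⁻¹)
    (hinv : ∀ a (ha : a ∈ A) (x : S) (hx : x ∈ (Q : Subgroup S)),
      l ⟨a x, hQP (c.stab a ha x hx)⟩ = l ⟨x, hQP hx⟩) : HasGood M A := by
  classical
  have := Fintype.ofFinite S
  have : Fintype P := Fintype.ofFinite P
  have : Fact (Nat.Prime 2) := ⟨Nat.prime_two⟩
  have hθ := isIrrCharacter_indFun P l hirr
  set θ : S → ℂ := indFun P (fun t => (l t : ℂ)) with hθdef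
  have hone : θ 1 = (P.index : ℂ) := by
    rw [hθdef, Cfsg.Agent.OddOrderCharacters.IndRes.indFun_apply_one, map_one, Units.val_one, mul_one]
  have hodd : Odd P.index := by
    have h1 : Odd (Q : Subgroup S).index := by
      rw [← Nat.not_even_iff_odd, even_iff_two_dvd]
      exact Q.not_dvd_index
    exact h1.of_dvd_nat (Subgroup.index_dvd_of_le hQP)
  -- not real
  have hnr : ∃ g : S, (θ g).im ≠ 0 := by
    by_contra hcon
    push Not at hcon
    have h1 : classInner θ (indFun P fun t => ((l⁻¹ t : ℂˣ) : ℂ)) = 0 := inner_eq_zero P P l l⁻¹ hreal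
    have h2 : (indFun P fun t => ((l⁻¹ t : ℂˣ) : ℂ)) = θ := by
      funext g
      have h3 : conj (θ g) = θ g := Complex.conj_eq_iff_im.2 (hcon g)
      rw [← h3, hθdef, indFun_apply, indFun_apply, map_mul, map_inv₀, Complex.conj_natCast, map_sum]
      congr 1
      refine Finset.sum_congr rfl fun x _ => ?_
      by_cases hx : x⁻¹ * g * x ∈ P
      · rw [ext_apply_mem P _ _ hx, ext_apply_mem P _ _ hx]
        have h4 := mul_conj_hom l ⟨x⁻¹ * g * x, hx⟩
        rw [MonoidHom.inv_apply, Units.val_inv_eq_inv_val]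
        exact inv_eq_of_mul_eq_one_right h4
      · rw [ext_apply_not_mem P _ _ hx, ext_apply_not_mem P _ _ hx, map_zero]
    rw [h2, Core.classInner_irr_self hθ] at h1
    exact one_ne_zero h1
  refine ⟨⟨θ, hθ⟩, ?_, ?_, ?_, hnr⟩
  · -- the principal block
    by_contra hcon
    have h1 := Cfsg.Agent.H30.OneClass.inner_eq_zero hM ⟨θ, hθ⟩ hcon
    have hne : (1 : S → ℂ) ≠ θ := by
      intro h
      obtain ⟨g, hg⟩ := hnr
      rw [← h] at hg
      simp at hg
    have h2 : classInner (1 : S → ℂ) θ = 0 := by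
      exact Core.classInner_irr_ne Core.isIrr_one hθ hne
    have h4 : classInner (fun g : S => if 2 ∣ orderOf g then (0 : ℂ) else 1) θ = 0 := by
      have e : (fun g : S => if 2 ∣ orderOf g then (0 : ℂ) else 1) =
          fun g => (1 : S → ℂ) g - (if 2 ∣ orderOf g then (1 : ℂ) else 0) := by
        funext g
        split_ifs <;> simp
      have h5 : classInner (fun g : S => (1 : S → ℂ) g - (if 2 ∣ orderOf g then (1 : ℂ) else 0)) θ =
          classInner (1 : S → ℂ) θ - classInner (fun g : S => if 2 ∣ orderOf g then (1 : ℂ) else 0) θ := by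
        rw [classInner_apply, classInner_apply, classInner_apply, ← mul_sub, ← Finset.sum_sub_distrib]
        congr 1
        refine Finset.sum_congr rfl fun g _ => ?_
        ring
      rw [e, h5, h2, h1, sub_zero]
    rw [classInner_apply] at h4
    have h6 : (Nat.card S : ℂ) ≠ 0 := by exact_mod_cast Nat.card_pos.ne'
    have h7 := (mul_eq_zero.1 h4).resolve_left (inv_ne_zero h6)
    -- real parts
    have h8 : ∑ g : S, ((if 2 ∣ orderOf g then (0 : ℂ) else 1) * conj (θ g)).re = 0 := by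
      rw [← Complex.re_sum, h7, Complex.zero_re]
    have h9 : 0 < ∑ g : S, ((if 2 ∣ orderOf g then (0 : ℂ) else 1) * conj (θ g)).re := by
      refine Finset.sum_pos' ?_ ⟨1, Finset.mem_univ _, ?_⟩
      · intro g _
        split_ifs with hg
        · rw [zero_mul, Complex.zero_re]
        · obtain ⟨r, hr, hr'⟩ := re_nonneg P l hl hg
          rw [one_mul, hθdef, hr', Complex.conj_re, Complex.ofReal_re]
          exact hr
      · rw [if_neg (by rw [orderOf_one]; norm_num), one_mul, Complex.conj_re, hone, Complex.natCast_re]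
        exact_mod_cast Nat.pos_of_ne_zero P.index_ne_zero_of_finite
    exact absurd h8 h9.ne'
  · -- the degree
    have h1 : charDegree θ = P.index := by
      unfold charDegree
      rw [hone, Complex.natCast_re, Nat.floor_natCast]
    change Odd (charDegree θ)
    rw [h1]
    exact hodd
  · -- invariance
    intro a ha g
    change θ (a g) = θ g
    let P' : Subgroup S := P.comap (a : S ≃* S).toMonoidHom
    let l' : P' →* ℂˣ := l.comp ((a : S ≃* S).toMonoidHom.subgroupComap P)
    have hθ' : (indFun P' fun t => ((l' t : ℂˣ) : ℂ)) = fun g => θ (a g) := by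
      funext g
      exact indFun_comp a P l g
    -- the two characters agree on the intersection
    have hQP' : (Q : Subgroup S) ≤ P' := fun x hx => hQP (c.stab a ha x hx)
    have hagr : ∀ (x : S) (hx : x ∈ P) (hx' : x ∈ P'), l ⟨x, hx⟩ = l' ⟨x, hx'⟩ := by
      intro x hx hx'
      let D : Subgroup S := P ⊓ P'
      let μ : D →* ℂˣ := (l.comp (Subgroup.inclusion inf_le_left)) * (l'.comp (Subgroup.inclusion inf_le_right))⁻¹
      have hQD : (Q : Subgroup S) ≤ D := le_inf hQP hQP'
      have h1 : ∀ y : D, μ y = 1 := by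
        refine eq_one_of_odd (K := (Q : Subgroup S).subgroupOf D) ?_ μ ?_ ?_
        · have h2 : Odd (Q : Subgroup S).index := by
            rw [← Nat.not_even_iff_odd, even_iff_two_dvd]
            exact Q.not_dvd_index
          exact h2.of_dvd_nat (Subgroup.relIndex_dvd_index_of_le hQD)
        · intro y
          obtain ⟨k, hk⟩ := hl (Subgroup.inclusion inf_le_left y)
          obtain ⟨k', hk'⟩ := hl ((a : S ≃* S).toMonoidHom.subgroupComap P (Subgroup.inclusion inf_le_right y))
          refine ⟨k + k', ?_⟩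
          change (l _ * (l _)⁻¹) ^ _ = 1
          rw [mul_pow, inv_pow, pow_add, pow_mul, hk, one_pow, mul_comm (2 ^ k), pow_mul]
          erw [hk']
          rw [one_pow, inv_one, one_mul]
        · intro y hy
          have h3 := hinv a ha y hy
          change l _ * (l _)⁻¹ = 1
          rw [mul_inv_eq_one]
          exact h3.symm
      exact mul_inv_eq_one.1 (h1 ⟨x, hx, hx'⟩)
    have h1 := inner_ne_zero P P' l l' hagr
    rw [hθ'] at h1
    have hirr' : IsIrrCharacter S (fun g => θ (a g)) := by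
      exact Core.isIrr_comp (a : S ≃* S).toMonoidHom (a : S ≃* S).surjective hθ
    by_cases heq : θ = fun g => θ (a g)
    · exact (congrFun heq g).symm
    · exact absurd (Core.classInner_irr_ne hθ hirr' heq) h1

end Cfsg.Agent.H755.Sd
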