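import Cfsg.Agent.H755.Sd.TorusW
import Cfsg.Agent.H755.Sd.Abs

/-!
# S4579, `PSL_n`: the linear character of the parabolic subgroup (helper755)
-/

set_option autoImplicit false

namespace Cfsg.Agent.H755.Sd

open Subgroup Equiv Matrix
open Cfsg.Agent.H139.Bruhat Cfsg.Agent.H755.Sd.Syl Cfsg.Agent.H755.Sd.PermU Cfsg.Agent.H755.Sd.Par
open scoped MatrixGroups

/-- descending a linear character -/
theorem exists_lift {G H : Type*} [Group G] [Group H] (π : G →* H) (B : Subgroup G) (lam : B →* ℂˣ)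
    (hker : ∀ x : B, π x = 1 → lam x = 1) :
    ∃ l : ↥(B.map π) →* ℂˣ, ∀ (x : G) (hx : x ∈ B), l ⟨π x, mem_map_of_mem π hx⟩ = lam ⟨x, hx⟩ := by
  have hs : Function.Surjective (π.subgroupMap B) := π.subgroupMap_surjective B
  refine ⟨(π.subgroupMap B).liftOfSurjective hs ⟨lam, ?_⟩, ?_⟩
  · intro x hx
    exact hker x (congrArg Subtype.val hx)
  · intro x hx
    exact (π.subgroupMap B).liftOfRightInverse_comp_apply _ (Function.rightInverse_surjInv hs) ⟨lam, _⟩ ⟨x, hx⟩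

/-- representatives of the fibres -/
theorem exists_rep {n : ℕ} {X : Type*} (s : Fin n → X) :
    ∃ b : Fin n → Fin n, (∀ i, s (b i) = s i) ∧ ∀ i j, b i = b j ↔ s i = s j := by
  classical
  let b : Fin n → Fin n := fun i => Quotient.out (Quotient.mk (Setoid.ker s) i)
  have h1 : ∀ i, s (b i) = s i := fun i => Setoid.ker_def.1 (Quotient.mk_out (s := Setoid.ker s) i)
  refine ⟨b, h1, fun i j => ⟨fun h => by rw [← h1 i, ← h1 j, h], fun h => ?_⟩⟩
  have h2 : Quotient.mk (Setoid.ker s) i = Quotient.mk (Setoid.ker s) j := Quotient.sound h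
  show Quotient.out (Quotient.mk (Setoid.ker s) i) = Quotient.out (Quotient.mk (Setoid.ker s) j)
  rw [h2]

section

variable {F : Type*} [Field F] {n : ℕ}

/-- the block triangular subgroup of `SL` -/
def PS (F : Type*) [Field F] {n : ℕ} (b : Fin n → Fin n) : Subgroup (Matrix.SpecialLinearGroup (Fin n) F) :=
  (PB F b).comap Matrix.SpecialLinearGroup.toGL

/-- the linear character of `PS` -/
noncomputable def LamS (b : Fin n → Fin n) (s : Fin n → (Fˣ →* ℂˣ)) : ↥(PS F b) →* ℂˣ :=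
  (Lam s).comp (Matrix.SpecialLinearGroup.toGL.subgroupComap (PB F b))

theorem LamS_apply {b : Fin n → Fin n} (s : Fin n → (Fˣ →* ℂˣ)) (x : PS F b) :
    LamS b s x = Lam s (⟨Matrix.SpecialLinearGroup.toGL (x : Matrix.SpecialLinearGroup (Fin n) F), x.2⟩ : PB F b) :=
  rfl

theorem LamS_dgl {b : Fin n → Fin n} {s : Fin n → (Fˣ →* ℂˣ)} (hs : ∀ i, s (b i) = s i) {x : PS F b}
    {t : Fin n → Fˣ} (hx : Matrix.SpecialLinearGroup.toGL (x : Matrix.SpecialLinearGroup (Fin n) F) = dgl t) :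
    LamS b s x = ∏ i, s i (t i) := by
  rw [← Lam_dgl hs, LamS_apply]
  congr 1
  exact Subtype.ext hx

end

section Main

variable {F : Type*} [Field F] {n : ℕ} {D : TD F n} {S : Type*} [Group S]
  {π : Matrix.SpecialLinearGroup (Fin n) F →* S} {fh : ↥D.QH →* ℂˣ}

open TD

theorem LamS_ker {b : Fin n → Fin n} (hs : ∀ i, sf fh (b i) = sf fh i)
    (hker : ∀ x, π x = 1 → x ∈ center (Matrix.SpecialLinearGroup (Fin n) F))
    (hfk : ∀ y : D.QH, π y = 1 → fh y = 1) (x : PS F b) (hx : π x = 1) : LamS b (sf fh) x = 1 := by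
  obtain ⟨r, hr, hrx⟩ := Matrix.SpecialLinearGroup.mem_center_iff.1 (hker _ hx)
  have hr0 : r ≠ 0 := by
    rintro rfl
    have : Nonempty (Fin n) := ⟨D.i0⟩
    rw [zero_pow Fintype.card_ne_zero] at hr
    exact zero_ne_one hr
  have hx' : Matrix.SpecialLinearGroup.toGL (x : Matrix.SpecialLinearGroup (Fin n) F) =
      dgl (fun _ => Units.mk0 r hr0) := by
    apply Units.ext
    show ((x : Matrix.SpecialLinearGroup (Fin n) F) : Matrix (Fin n) (Fin n) F) = _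
    rw [← hrx]
    rfl
  have hprod : ∏ _i : Fin n, Units.mk0 r hr0 = 1 := by
    apply Units.ext
    rw [Units.coe_prod]
    simpa using hr
  rw [LamS_dgl hs hx', ← Phi_eq, Phi_def]
  apply hfk
  show π (dgS D.i0 ((fun _ => Units.mk0 r hr0) ^ D.e)) = 1
  have h1 : dgS D.i0 (fun _ => Units.mk0 r hr0) = (x : Matrix.SpecialLinearGroup (Fin n) F) := by
    apply toGL_injective
    rw [toGL_dgS, hx', cor_of_prod hprod]
  rw [map_pow, h1, map_pow, hx, one_pow]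

theorem LamS_pow [Finite F] {b : Fin n → Fin n} : ∃ k : ℕ, ∀ x : PS F b, LamS b (sf fh) x ^ 2 ^ k = 1 := by
  obtain ⟨k, hk⟩ := exists_pow_sf fh
  refine ⟨k, fun x => ?_⟩
  rw [LamS_apply, Lam_apply, ← Finset.prod_pow]
  refine Finset.prod_eq_one fun i _ => ?_
  rw [← MonoidHom.pow_apply, hk i]
  rfl

/-- elements for Mackey's criterion in `SL` -/
theorem exists_mackeyS {b : Fin n → Fin n} {s : Fin n → (Fˣ →* ℂˣ)} (hs : ∀ i, s (b i) = s i)
    (g : Matrix.SpecialLinearGroup (Fin n) F) :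
    ∃ σ : Perm (Fin n), ((∀ i, b (σ i) = b i) → g ∈ PS F b) ∧
      ∀ t : Fin n → Fˣ, ∏ i, t i = 1 → ∃ y : PS F b, ∃ hy : g⁻¹ * y * g ∈ PS F b,
        LamS b s y = ∏ i, s i (t i) ∧ LamS b s (⟨g⁻¹ * y * g, hy⟩ : PS F b) = ∏ i, s i (t (σ i)) := by
  obtain ⟨σ, h1, h2⟩ := exists_mackey (b := b) hs (Matrix.SpecialLinearGroup.toGL g)
  refine ⟨σ, h1, fun t ht => ?_⟩
  obtain ⟨y, hy, hdet, hy1, hy2⟩ := h2 t
  rw [← Units.coe_prod, ht, Units.val_one] at hdet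
  have e1 : Matrix.SpecialLinearGroup.toGL (ofGL (y : GL (Fin n) F) hdet) = y := toGL_ofGL _ _
  have e2 : Matrix.SpecialLinearGroup.toGL (g⁻¹ * ofGL (y : GL (Fin n) F) hdet * g) =
      (Matrix.SpecialLinearGroup.toGL g)⁻¹ * y * Matrix.SpecialLinearGroup.toGL g := by
    rw [map_mul, map_mul, map_inv, e1]
  have m1 : ofGL (y : GL (Fin n) F) hdet ∈ PS F b := by
    show Matrix.SpecialLinearGroup.toGL (ofGL (y : GL (Fin n) F) hdet) ∈ PB F b
    rw [e1]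
    exact y.2
  have m2 : g⁻¹ * ofGL (y : GL (Fin n) F) hdet * g ∈ PS F b := by
    show Matrix.SpecialLinearGroup.toGL (g⁻¹ * ofGL (y : GL (Fin n) F) hdet * g) ∈ PB F b
    rw [e2]
    exact hy
  refine ⟨⟨_, m1⟩, m2, ?_, ?_⟩
  · rw [LamS_apply, ← hy1]
    congr 1
    exact Subtype.ext e1
  · rw [LamS_apply, ← hy2]
    congr 1
    exact Subtype.ext e2

variable [Finite F]

omit [Finite F] in
theorem aux_pow {X : Type*} [CommGroup X] {a b : X} {N : ℕ} (ha : a ^ N = 1) (hb : b ^ N = 1) :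
    (a * b⁻¹) ^ N = 1 := by
  rw [mul_pow, inv_pow, ha, hb, inv_one, mul_one]

theorem Yst_of_mackey {σ : Perm (Fin n)} (hn : ∀ k, n ≠ 2 ^ k)
    (h : ∀ t : Fin n → Fˣ, ∏ i, t i = 1 → ∏ i, sf fh i (t i) = ∏ i, sf fh i (t (σ i))) :
    σ ∈ Yst (sf fh) := by
  have h1 : ∀ t : Fin n → Fˣ, ∏ i, t i = 1 → ∏ i, sf fh (σ⁻¹ i) (t i) = ∏ i, sf fh i (t i) := by
    intro t ht
    rw [h t ht, ← Equiv.prod_comp σ⁻¹ (fun i => sf fh i (t (σ i)))]
    refine Finset.prod_congr rfl fun i _ => ?_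
    rw [ais]
  have h2 := semi_of_prod D.i0 (r := fun i => sf fh (σ⁻¹ i)) (r' := sf fh) h1
  obtain ⟨k, hk⟩ := exists_pow_sf fh
  have h3 : σ⁻¹ ∈ Yst (sf fh) := mem_Yst_mul (odd_Yst fh hn) h2 (k := k) (aux_pow (hk _) (hk _))
  exact inv_mem_iff.1 h3

theorem sq_of_mackey {σ : Perm (Fin n)} (hn : ∀ k, n ≠ 2 ^ k)
    (h : ∀ t : Fin n → Fˣ, ∏ i, t i = 1 → ∏ i, sf fh i (t i) = (∏ i, sf fh i (t (σ i)))⁻¹) (i : Fin n) :
    sf fh i ^ 2 = 1 := by
  have h1 : ∀ t : Fin n → Fˣ, ∏ i, t i = 1 → ∏ i, sf fh (σ⁻¹ i) (t i) = ∏ i, (sf fh i)⁻¹ (t i) := by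
    intro t ht
    simp only [MonoidHom.inv_apply]
    rw [Finset.prod_inv_distrib, h t ht, inv_inv, ← Equiv.prod_comp σ⁻¹ (fun i => sf fh i (t (σ i)))]
    refine Finset.prod_congr rfl fun i _ => ?_
    rw [ais]
  have h2 := semi_of_prod D.i0 (r := fun i => sf fh (σ⁻¹ i)) (r' := fun i => (sf fh i)⁻¹) h1
  set c : Fˣ →* ℂˣ := sf fh (σ⁻¹ D.i0) * (sf fh D.i0)⁻¹⁻¹
  have h3 : ∀ i, sf fh (σ⁻¹ i) * sf fh i = c := by
    intro i
    rw [h2 i]
    exact inv_mul_cancel_right c (sf fh i)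
  have h4 : σ⁻¹ ∈ Yst (sf fh) := mem_Yst_inv (odd_Yst fh hn) h3
  have h5 : ∀ i, sf fh i * sf fh i = c := by
    intro i
    have := h3 i
    rwa [h4 i] at this
  have h6 : c = 1 := by
    rw [← h5 D.i0, sf_i0]
    exact one_mul (1 : Fˣ →* ℂˣ)
  rw [pow_two, h5, h6]

/-- **The linear character of the parabolic subgroup.** -/
theorem exists_lin (hn : ∀ k, n ≠ 2 ^ k) (hn2 : 2 ≤ n) (hneg : IsSquare (-1 : F)) (hπ : Function.Surjective π)
    (hker : ∀ x, π x = 1 → x ∈ center (Matrix.SpecialLinearGroup (Fin n) F))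
    (hfk : ∀ y : D.QH, π y = 1 → fh y = 1) (hne : ∃ x, fh x ^ 2 ≠ 1) :
    ∃ b : Fin n → Fin n, (∀ i, sf fh (b i) = sf fh i) ∧ (∀ i j, b i = b j ↔ sf fh i = sf fh j) ∧
      ∃ l : ↥((PS F b).map π) →* ℂˣ,
        (∀ (x) (hx : x ∈ PS F b), l ⟨π x, mem_map_of_mem π hx⟩ = LamS b (sf fh) ⟨x, hx⟩) ∧
        (∀ x, ∃ k : ℕ, l x ^ 2 ^ k = 1) ∧
        (∀ x : S, x ∉ (PS F b).map π → ∃ (t : ↥((PS F b).map π)) (hx : x⁻¹ * t * x ∈ (PS F b).map π),
          l t ≠ l ⟨x⁻¹ * t * x, hx⟩) ∧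
        ∀ x : S, ∃ (t : ↥((PS F b).map π)) (hx : x⁻¹ * t * x ∈ (PS F b).map π),
          l t ≠ (l ⟨x⁻¹ * t * x, hx⟩)⁻¹ := by
  obtain ⟨b, hb1, hb2⟩ := exists_rep (sf fh)
  obtain ⟨l, hl⟩ := exists_lift π (PS F b) (LamS b (sf fh)) (LamS_ker hb1 hker hfk)
  refine ⟨b, hb1, hb2, l, hl, ?_, ?_, ?_⟩
  · rintro ⟨_, x, hx, rfl⟩
    obtain ⟨k, hk⟩ := LamS_pow (fh := fh) (b := b)
    refine ⟨k, ?_⟩
    have := hl x hx
    rw [this]
    exact hk _
  · intro x hx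
    obtain ⟨g, rfl⟩ := hπ x
    obtain ⟨σ, h1, h2⟩ := exists_mackeyS hb1 g
    by_contra hcon
    push Not at hcon
    apply hx
    refine mem_map_of_mem π (h1 ?_)
    have h3 : σ ∈ Yst (sf fh) := by
      refine Yst_of_mackey hn fun t ht => ?_
      obtain ⟨y, hy, hy1, hy2⟩ := h2 t ht
      have e : (π g)⁻¹ * π y * π g = π (g⁻¹ * y * g) := by rw [map_mul, map_mul, map_inv]
      have h4 := hcon ⟨π y, mem_map_of_mem π y.2⟩ (by
        show (π g)⁻¹ * π y * π g ∈ _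
        rw [e]
        exact mem_map_of_mem π hy)
      rw [hl _ y.2, hy1] at h4
      rw [h4, ← hy2, ← hl]
      congr 1
      exact Subtype.ext e
    intro i
    rw [hb2]
    exact h3 i
  · intro x
    obtain ⟨g, rfl⟩ := hπ x
    obtain ⟨σ, h1, h2⟩ := exists_mackeyS hb1 g
    by_contra hcon
    push Not at hcon
    obtain ⟨x, hx⟩ := hne
    apply hx
    refine sq_of_torus fh hneg hn2 (sq_of_mackey hn (σ := σ) fun t ht => ?_) x
    obtain ⟨y, hy, hy1, hy2⟩ := h2 t ht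
    have e : (π g)⁻¹ * π y * π g = π (g⁻¹ * y * g) := by rw [map_mul, map_mul, map_inv]
    have h4 := hcon ⟨π y, mem_map_of_mem π y.2⟩ (by
      show (π g)⁻¹ * π y * π g ∈ _
      rw [e]
      exact mem_map_of_mem π hy)
    rw [hl _ y.2, hy1] at h4
    rw [h4, ← hy2, ← hl]
    congr 2
    exact Subtype.ext e

end Main

end Cfsg.Agent.H755.Sd
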