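import Cfsg.Agent.H755.Sd.Core
import Cfsg.Agent.ClassicalGeometry.AutPSL.Main
import Cfsg.Agent.H491.Sd.GTwo
import Cfsg.Agent.S4627
import Cfsg.Agent.S4628

/-!
# S4579: the row of `PSL_n(q)` (helper755)
-/

set_option autoImplicit false

namespace Cfsg.Agent.H755.Sd

open Cfsg Cfsg.Agent.H643.Sd
open Cfsg.Agent.ClassicalGeometry.AutPSL.Auto Cfsg.Agent.ClassicalGeometry.AutPSL.Root

universe u

theorem elem_of_sq' {G : Type*} [Group G]
    (h : ∀ (P : Sylow 2 G) (x : (P : Subgroup G)), x ^ 2 ∈ commutator (P : Subgroup G)) : Elem G :=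
  fun P => lin2_of_sq (h P)

/-- **The row of `PSL_n(q)`.** -/
theorem row_psl {S : Type u} [Group S] [Finite S] [IsSimpleGroup S] (h : Cfsg.IsPSL S) : Row S := by
  have h0 := h
  obtain ⟨F, _, _, n, hn, hn2, ⟨e⟩⟩ := h
  by_cases hF : Odd (Fintype.card F)
  · -- the quotient of `SL`
    have hquot : Elem (Matrix.SpecialLinearGroup (Fin n) F) → Row S := fun h1 =>
      row_of_elem ((h1.quotient _).congr e.symm)
    have h1F : 1 < Fintype.card F := Fintype.one_lt_card
    by_cases hq : 4 ∣ Fintype.card F - 1
    · by_cases hk : ∃ k, n = 2 ^ k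
      · obtain ⟨k, rfl⟩ := hk
        apply hquot
        have hk0 : k ≠ 0 := by
          rintro rfl
          norm_num at hn
        obtain ⟨j, rfl⟩ := Nat.exists_eq_succ_of_ne_zero hk0
        have e2 : 2 ^ (j.succ) = 2 * 2 ^ j := by rw [Nat.succ_eq_add_one, pow_succ, mul_comm]
        rw [e2]
        exact elem_of_sq' fun P => Cfsg.Agent.S4627.result hF (2 ^ j) Nat.one_le_two_pow
          (Or.inr ⟨hq, j, rfl⟩) P
      · push Not at hk
        have hn3 : 3 ≤ n := by
          rcases Nat.lt_or_ge n 3 with h3 | h3
          · have : n = 2 := by omega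
            exact absurd this (by simpa using hk 1)
          · exact h3
        obtain ⟨p, hp⟩ := CharP.exists F
        have hpp : Fact p.Prime := ⟨CharP.char_is_prime F p⟩
        let π : Matrix.SpecialLinearGroup (Fin n) F →* S := e.symm.toMonoidHom.comp pr
        have hπ : Function.Surjective π := e.symm.surjective.comp pr_surjective
        refine row_core (π := π) hq hn3 hk hπ ?_ ?_
        · intro x hx
          have h2 : pr x = 1 := by
            have h3 : e.symm (pr x) = 1 := hx
            simpa using h3
          exact (pr_eq_one_iff x).1 h2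
        · intro α
          have key : ∀ γ : MulAut (Matrix.SpecialLinearGroup (Fin n) F),
              ((e.symm.trans α).trans e : MulAut (Matrix.ProjectiveSpecialLinearGroup (Fin n) F)) = lift γ →
              ∀ x, α (π x) = π (γ x) := by
            intro γ hγ x
            have h3 := DFunLike.congr_fun hγ (pr x)
            rw [lift_pr] at h3
            have h4 : e (α (e.symm (pr x))) = pr (γ x) := h3
            show α (e.symm (pr x)) = e.symm (pr (γ x))
            rw [← h4, MulEquiv.symm_apply_apply]
          rcases Cfsg.Agent.ClassicalGeometry.AutPSL.Main.surj_three p hn3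
            ((e.symm.trans α).trans e : MulAut (Matrix.ProjectiveSpecialLinearGroup (Fin n) F)) with
            ⟨A, σ, h2⟩ | ⟨A, σ, h2⟩
          · exact ⟨A, fld σ, _, std_fld σ, key _ h2⟩
          · exact ⟨A, fld σ * itr, _, std_itr σ, key _ (by rw [h2, mul_assoc])⟩
    · apply hquot
      have hq' : 4 ∣ Fintype.card F + 1 := by
        obtain ⟨m, hm⟩ := hF
        omega
      rcases Nat.even_or_odd' n with ⟨m, rfl | rfl⟩
      · exact elem_of_sq' fun P => Cfsg.Agent.S4627.result hF m (by omega) (Or.inl hq') P
      · exact elem_of_sq' fun P => Cfsg.Agent.S4628.result hF hq' m (by omega) P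
  · have := Cfsg.Agent.H491.Sd.charP_two_of_not_odd hF
    exact row_of_elem (Cfsg.Agent.H491.Sd.elem_of_char_two (Or.inl
      ⟨F, inferInstance, inferInstance, this, n, hn, hn2, ⟨e⟩⟩))

end Cfsg.Agent.H755.Sd
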