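import Cfsg.Agent.H55.Sd.Toral

/-!
# S4579: normalising a context with respect to a subgroup `T` (helper755)

`row_of_torus` : let `Q₁` be a Sylow `2`-subgroup of `S` normalising `T`, and suppose that every automorphism maps `T` to
an `S`-conjugate of `T`. To prove `Row S` it is enough to treat the contexts `(Q, A)` with `Q = Q₁` such that `A`
stabilises `T`.
-/

set_option autoImplicit false

namespace Cfsg.Agent.H755.Sd.Reduce

open Cfsg Cfsg.Agent.H643.Sd Cfsg.Agent.H55.Sd Subgroup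
open scoped Pointwise

universe u

variable {S : Type u} [Group S] [Finite S]

/-- a `2`-group of automorphisms fixes a conjugate of `T` -/
theorem exists_fixed {T Q₁ : Subgroup S} (h2 : Odd Q₁.index) (hT : ∀ x ∈ Q₁, MulAut.conj x • T = T)
    (haut : ∀ α : MulAut S, ∃ s : S, α • T = MulAut.conj s • T) {A : Subgroup (MulAut S)} (hA : IsPGroup 2 A) :
    ∃ g : S, ∀ a ∈ A, a • (MulAut.conj g • T) = MulAut.conj g • T := by
  have h2' : Fact (Nat.Prime 2) := ⟨Nat.prime_two⟩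
  -- the conjugates of `T`
  let Ω : SubMulAction A (Subgroup S) :=
    { carrier := Set.range fun g : S => MulAut.conj g • T
      smul_mem' := by
        rintro a _ ⟨g, rfl⟩
        obtain ⟨s, hs⟩ := haut a
        refine ⟨(a : MulAut S) g * s, ?_⟩
        show MulAut.conj ((a : MulAut S) g * s) • T = (a : MulAut S) • MulAut.conj g • T
        rw [map_mul, mul_smul, ← hs, ← mul_smul, ← mul_smul, Cfsg.Agent.H55.Sd.mul_conj] }
  have hcard : ¬ 2 ∣ Nat.card Ω := by
    rw [← even_iff_two_dvd, Nat.not_even_iff_odd]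
    let _ : MulAction S (Subgroup S) := MulAction.compHom (Subgroup S) (MulAut.conj : S →* MulAut S)
    have h3 : Nat.card Ω = (MulAction.stabilizer S T).index := by
      rw [MulAction.index_stabilizer, ← Nat.card_coe_set_eq]
      rfl
    rw [h3]
    exact h2.of_dvd_nat (index_dvd_of_le fun x hx => MulAction.mem_stabilizer_iff.2 (hT x hx))
  have : Finite Ω := Finite.of_injective (fun x : Ω => (x : Subgroup S)) Subtype.val_injective
  obtain ⟨ω, hω⟩ := hA.nonempty_fixed_point_of_prime_not_dvd_card Ω hcard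
  obtain ⟨g, hg⟩ := ω.2
  refine ⟨g, ?_⟩
  intro a ha
  have h4 : (⟨a, ha⟩ : A) • ω = ω := hω ⟨a, ha⟩
  have h5 := congrArg (fun x : Ω => (x : Subgroup S)) h4
  have hg' : MulAut.conj g • T = (ω : Subgroup S) := hg
  rw [hg']
  exact h5

theorem row_of_torus {T Q₁ : Subgroup S} (h1 : IsPGroup 2 Q₁) (h2 : Odd Q₁.index)
    (hT : ∀ x ∈ Q₁, MulAut.conj x • T = T) (haut : ∀ α : MulAut S, ∃ s : S, α • T = MulAut.conj s • T)
    (H : ∀ (M : Ideal AlgInt), IsPModular 2 M → ∀ (Q : Sylow 2 S) (A : Subgroup (MulAut S)) (c : Ctx Q A),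
      (Q : Subgroup S) = Q₁ → (∀ a ∈ A, a • T = T) → ∀ f : (Q : Subgroup S) →* ℂˣ, Inv c f →
      (∃ x, f x ^ 2 ≠ 1) → HasGood M A) : Row S := by
  have h2' : Fact (Nat.Prime 2) := ⟨Nat.prime_two⟩
  -- the general statement: `A` stabilises `T`
  have key : ∀ (M : Ideal AlgInt), IsPModular 2 M → ∀ (Q : Sylow 2 S) (A : Subgroup (MulAut S)) (c : Ctx Q A),
      (∀ a ∈ A, a • T = T) → ∀ f : (Q : Subgroup S) →* ℂˣ, Inv c f → (∃ x, f x ^ 2 ≠ 1) → HasGood M A := by
    intro M hM Q A c hAT f hf hne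
    -- the stabiliser of `T` in `S`
    let N : Subgroup S := (MulAction.stabilizer (MulAut S) T).comap (MulAut.conj : S →* MulAut S)
    have hN : ∀ x, x ∈ N ↔ MulAut.conj x • T = T := fun x => MulAction.mem_stabilizer_iff
    have hQN : (Q : Subgroup S) ≤ N := fun x hx => (hN x).2 (hAT _ (c.inner x hx))
    have hQ₁N : Q₁ ≤ N := fun x hx => (hN x).2 (hT x hx)
    have hodd : Odd (Q₁.relIndex N) := h2.of_dvd_nat ⟨_, (relIndex_mul_index hQ₁N).symm⟩
    obtain ⟨h, hhN, hh⟩ := Cfsg.Agent.H55.Sd.exists_conj_le hQ₁N h1 hodd hQN Q.2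
    have hQ' : ((h⁻¹ • Q : Sylow 2 S) : Subgroup S) = Q₁ := by
      have h3 : ((h⁻¹ • Q : Sylow 2 S) : Subgroup S) ≤ Q₁ := by
        intro x hx
        rw [mem_smul_sylow, inv_inv] at hx
        have h4 := hh _ hx
        have e : h⁻¹ * (h * x * h⁻¹) * h = x := by group
        rwa [e] at h4
      exact ((h⁻¹ • Q : Sylow 2 S).is_maximal' h1 h3).symm
    have hN' : ∀ x ∈ N, MulAut.conj x • T = T := fun x hx => (hN x).1 hx
    refine hasGood_of_cjA (g := h⁻¹) (H M hM _ _ (Ctx.conj c h⁻¹) hQ' ?_ (cjf h⁻¹ f) (inv_cjf hf) (ne_cjf hne))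
    intro a ha
    have h5 := hAT _ (mem_cjA.1 ha)
    rw [mul_smul, mul_smul, hN' _ (N.inv_mem hhN), inv_smul_eq_iff, hN' _ (N.inv_mem hhN)] at h5
    exact h5
  intro M hM Q A c f hf hne
  obtain ⟨g, hg⟩ := exists_fixed h2 hT haut c.isP
  refine hasGood_of_cjA (g := g⁻¹) (key M hM _ _ (Ctx.conj c g⁻¹) ?_ (cjf g⁻¹ f) (inv_cjf hf) (ne_cjf hne))
  intro a ha
  have h3 := hg _ (mem_cjA.1 ha)
  rw [map_inv, inv_inv, mul_smul, mul_smul, inv_smul_smul] at h3
  exact smul_left_cancel _ h3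

end Cfsg.Agent.H755.Sd.Reduce
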