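import Cfsg.Agent.H755.Sd.InvA
import Cfsg.Agent.H755.Sd.Reduce
import Cfsg.Agent.H637.GLMain

/-!
# S4579: `Row (PSL n F)` for `|F| ≡ 1 mod 4`, `n` not a power of two (helper755)
-/

set_option autoImplicit false

namespace Cfsg.Agent.H755.Sd

open Subgroup Equiv Matrix Cfsg Cfsg.Agent.H643.Sd
open Cfsg.Agent.H139.Bruhat Cfsg.Agent.H755.Sd.Syl Cfsg.Agent.H755.Sd.PermU Cfsg.Agent.H755.Sd.Par
open Cfsg.Agent.ClassicalGeometry.AutPSL.Auto
open scoped MatrixGroups Pointwise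

universe u

section

variable {F : Type} [Field F] {n : ℕ}

/-- the diagonal matrices in `SL` -/
def DS (F : Type) [Field F] (n : ℕ) : Subgroup (Matrix.SpecialLinearGroup (Fin n) F) :=
  (dgl (F := F) (n := n)).range.comap Matrix.SpecialLinearGroup.toGL

theorem mem_DS {x : Matrix.SpecialLinearGroup (Fin n) F} :
    x ∈ DS F n ↔ ∃ t : Fin n → Fˣ, Matrix.SpecialLinearGroup.toGL x = dgl t := by
  constructor
  · rintro ⟨t, ht⟩
    exact ⟨t, ht.symm⟩
  · rintro ⟨t, ht⟩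
    exact ⟨t, ht.symm⟩

theorem center_le_DS (hn : 0 < n) {x : Matrix.SpecialLinearGroup (Fin n) F}
    (hx : x ∈ center (Matrix.SpecialLinearGroup (Fin n) F)) : x ∈ DS F n := by
  obtain ⟨r, hr, hrx⟩ := Matrix.SpecialLinearGroup.mem_center_iff.1 hx
  have hr0 : r ≠ 0 := by
    rintro rfl
    have : Nonempty (Fin n) := ⟨⟨0, hn⟩⟩
    rw [zero_pow Fintype.card_ne_zero] at hr
    exact zero_ne_one hr
  rw [mem_DS]
  refine ⟨fun _ => Units.mk0 r hr0, ?_⟩
  apply Units.ext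
  show (x : Matrix (Fin n) (Fin n) F) = _
  rw [← hrx]
  rfl

variable [Fintype F]

open TD

variable {S : Type u} [Group S] [Finite S] {π : Matrix.SpecialLinearGroup (Fin n) F →* S}

omit [Finite S] in
theorem odd_index_QH (hq : 4 ∣ Fintype.card F - 1) (D : TD F n) (hπ : Function.Surjective π) :
    IsPGroup 2 (D.QH.map π) ∧ Odd (D.QH.map π).index := by
  obtain ⟨h1, h2⟩ := odd_index_monK hq D.K D.W
  have h3 : IsPGroup 2 D.QH := h1.comap_of_injective _ fun x y h => toGL_injective h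
  refine ⟨h3.map _, ?_⟩
  have h4 : (D.QH.map π).index ∣ D.QH.index := index_map_dvd _ hπ
  have h5 : D.QH.index ∣ (monK (D.K : Subgroup Fˣ) (D.W : Subgroup (Perm (Fin n)))).index := by
    unfold TD.QH
    rw [index_comap, Cfsg.Agent.H637.range_toGL]
    exact Cfsg.Agent.H643.Sd.relIndex_dvd_index _ _
  exact h2.of_dvd_nat (h4.trans h5)

omit [Fintype F] in
theorem QH_conj_DS {D : TD F n} {x y : Matrix.SpecialLinearGroup (Fin n) F} (hx : x ∈ D.QH) (hy : y ∈ DS F n) :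
    x * y * x⁻¹ ∈ DS F n := by
  obtain ⟨d, σ, -, -, hx⟩ := mem_QH.1 hx
  obtain ⟨t, ht⟩ := mem_DS.1 hy
  exact mem_DS.2 ⟨_, by rw [map_mul, map_mul, map_inv, hx, ht, mon_conj_dgl]⟩

omit [Finite S] in
theorem conj_smul_le {g : S} {T : Subgroup S} (h : ∀ t ∈ T, g * t * g⁻¹ ∈ T) (h' : ∀ t ∈ T, g⁻¹ * t * g ∈ T) :
    MulAut.conj g • T = T := by
  apply le_antisymm
  · rintro _ ⟨t, ht, rfl⟩
    exact h t ht
  · intro t ht
    refine ⟨g⁻¹ * t * g, h' t ht, ?_⟩
    show g * (g⁻¹ * t * g) * g⁻¹ = t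
    group

omit [Fintype F] [Finite S] in
theorem conj_T {D : TD F n} {x : S} (hx : x ∈ D.QH.map π) :
    MulAut.conj x • ((DS F n).map π) = (DS F n).map π := by
  obtain ⟨y, hy, rfl⟩ := hx
  refine conj_smul_le ?_ ?_
  · rintro _ ⟨t, ht, rfl⟩
    exact ⟨y * t * y⁻¹, QH_conj_DS hy ht, by rw [map_mul, map_mul, map_inv]⟩
  · rintro _ ⟨t, ht, rfl⟩
    have h1 := QH_conj_DS (inv_mem hy) ht
    rw [inv_inv] at h1
    exact ⟨y⁻¹ * t * y, h1, by rw [map_mul, map_mul, map_inv]⟩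

omit [Fintype F] in
/-- every automorphism maps the torus to a conjugate -/
theorem aut_T (hn : 0 < n) {α : MulAut S} {A : GL (Fin n) F} {β : MulAut (Matrix.SpecialLinearGroup (Fin n) F)}
    {τ : Fˣ ≃* Fˣ} (hβ : Std β τ) (hα : ∀ x, α (π x) = π ((cj A * β) x)) :
    ∃ s : S, α • ((DS F n).map π) = MulAut.conj s • ((DS F n).map π) := by
  let i0 : Fin n := ⟨0, hn⟩
  let δ : Fin n → Fˣ := Pi.mulSingle i0 (Matrix.GeneralLinearGroup.det A)
  have hdet : ((A * (dgl δ)⁻¹ : GL (Fin n) F) : Matrix (Fin n) (Fin n) F).det = 1 := by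
    have h1 : Matrix.GeneralLinearGroup.det (A * (dgl δ)⁻¹) = 1 := by
      rw [map_mul, map_inv, mul_inv_eq_one]
      apply Units.ext
      show (A : Matrix (Fin n) (Fin n) F).det = ((dgl δ : GL (Fin n) F) : Matrix (Fin n) (Fin n) F).det
      rw [coe_dgl, Matrix.det_diagonal, ← Units.coe_prod]
      show _ = ((∏ i, (Pi.mulSingle i0 (Matrix.GeneralLinearGroup.det A) : Fin n → Fˣ) i : Fˣ) : F)
      rw [Finset.prod_pi_mulSingle', if_pos (Finset.mem_univ _)]
      rfl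
    exact congrArg Units.val h1
  obtain ⟨g, hg⟩ : ∃ g : Matrix.SpecialLinearGroup (Fin n) F,
      Matrix.SpecialLinearGroup.toGL g = A * (dgl δ)⁻¹ := ⟨ofGL _ hdet, toGL_ofGL _ _⟩
  refine ⟨π g, ?_⟩
  have hle : α • ((DS F n).map π) ≤ MulAut.conj (π g) • ((DS F n).map π) := by
    rintro _ ⟨_, ⟨x, hx, rfl⟩, rfl⟩
    obtain ⟨t, ht⟩ := mem_DS.1 hx
    refine ⟨π (β x), ⟨β x, mem_DS.2 ⟨_, hβ.diag _ _ ht⟩, rfl⟩, ?_⟩
    show π g * π (β x) * (π g)⁻¹ = α (π x)
    have h0 : g * β x * g⁻¹ = (cj A * β) x := ?_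
    · rw [hα, ← h0, map_mul, map_mul, map_inv]
    apply toGL_injective
    rw [map_mul, map_mul, map_inv, hg, hβ.diag _ _ ht]
    show _ = Matrix.SpecialLinearGroup.toGL (cj A (β x))
    rw [toGL_cj, hβ.diag _ _ ht, _root_.mul_inv_rev, inv_inv]
    have h1 : (dgl δ)⁻¹ * dgl (fun i => τ (t i)) * dgl δ = dgl (F := F) (fun i => τ (t i)) := by
      rw [← map_inv, ← map_mul, ← map_mul, mul_comm δ⁻¹, inv_mul_cancel_right]
    calc A * (dgl δ)⁻¹ * dgl (fun i => τ (t i)) * (dgl δ * A⁻¹)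
        = A * ((dgl δ)⁻¹ * dgl (fun i => τ (t i)) * dgl δ) * A⁻¹ := by group
      _ = _ := by rw [h1]
  refine eq_of_le_of_card_ge hle ?_
  have h1 : ∀ γ : MulAut S, Nat.card ↥(γ • ((DS F n).map π)) = Nat.card ((DS F n).map π) := by
    intro γ
    exact (Nat.card_congr (((DS F n).map π).equivMapOfInjective γ.toMonoidHom γ.injective).toEquiv).symm
  rw [h1, h1]

/-- **The row of `PSL_n(q)`, `q ≡ 1 mod 4`, `n` not a power of two.** -/
theorem row_core (hq : 4 ∣ Fintype.card F - 1) (hn3 : 3 ≤ n) (hn : ∀ k, n ≠ 2 ^ k)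
    (hπ : Function.Surjective π) (hker : ∀ x, π x = 1 → x ∈ center (Matrix.SpecialLinearGroup (Fin n) F))
    (haut : ∀ α : MulAut S, ∃ (A : GL (Fin n) F) (β : MulAut (Matrix.SpecialLinearGroup (Fin n) F)) (τ : Fˣ ≃* Fˣ),
      Std β τ ∧ ∀ x, α (π x) = π ((cj A * β) x)) : Row S := by
  have hodd := odd_card hq
  have hneg : IsSquare (-1 : F) := by
    rw [FiniteField.isSquare_neg_one_iff]
    have : 1 < Fintype.card F := Fintype.one_lt_card
    omega
  obtain ⟨D⟩ := TD.exists_data F (n := n) ⟨0, by omega⟩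
  obtain ⟨h1, h2⟩ := odd_index_QH hq D hπ
  refine Reduce.row_of_torus h1 h2 (T := (DS F n).map π) (fun x hx => conj_T hx) ?_ ?_
  · intro α
    obtain ⟨A, β, τ, hβ, hα⟩ := haut α
    exact aut_T (by omega) hβ hα
  · intro M hM Q A c hQ hAT f hf hne
    have hmem : ∀ y : D.QH, π y ∈ (Q : Subgroup S) := by
      intro y
      rw [hQ]
      exact mem_map_of_mem π y.2
    let fh : ↥D.QH →* ℂˣ := f.comp ((π.comp D.QH.subtype).codRestrict (Q : Subgroup S) hmem)
    have hfh : ∀ y : D.QH, fh y = f ⟨π y, hmem y⟩ := fun y => rfl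
    have hfk : ∀ y : D.QH, π y = 1 → fh y = 1 := by
      intro y hy
      rw [hfh]
      have : (⟨π y, hmem y⟩ : (Q : Subgroup S)) = 1 := Subtype.ext hy
      rw [this, map_one]
    have hne' : ∃ x, fh x ^ 2 ≠ 1 := by
      obtain ⟨⟨x, hx⟩, hx2⟩ := hne
      have hx' := hx
      rw [hQ] at hx'
      obtain ⟨y, hy, rfl⟩ := hx'
      exact ⟨⟨y, hy⟩, hx2⟩
    obtain ⟨b, hb1, hb2, l, hl, hlpow, hirr, hreal⟩ :=
      exists_lin (π := π) (fh := fh) hn (by omega) hneg hπ hker hfk hne'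
    have hW := W_le_Yst fh hn
    have hQP : D.QH ≤ PS F b := by
      intro x hx
      obtain ⟨d, σ, -, hσ, hx⟩ := mem_QH.1 hx
      show Matrix.SpecialLinearGroup.toGL x ∈ PB F b
      rw [hx]
      exact mul_mem (dgl_mem d) (perm_mem fun i => (hb2 _ _).2 (hW hσ i))
    have hQP' : (Q : Subgroup S) ≤ (PS F b).map π := by
      rw [hQ]
      exact map_mono hQP
    refine hasGood_of_lin hM c _ hQP' l hlpow hirr hreal ?_
    intro a ha x hx
    have hx' := hx
    rw [hQ] at hx'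
    obtain ⟨y, hy, hyx⟩ := hx'
    obtain ⟨A', β, τ, hβ, hα⟩ := haut a
    obtain ⟨m1, m2, hinv⟩ := LamS_invariant (fh := fh) hodd hb1 hb2 hW (γ := cj A' * β) rfl hβ hn3 (by
        -- diagonal matrices
        intro z t hz
        have h3 : π ((cj A' * β) z) ∈ (DS F n).map π := by
          rw [← hα, ← hAT a ha]
          exact ⟨π z, ⟨z, mem_DS.2 ⟨t, hz⟩, rfl⟩, rfl⟩
        obtain ⟨z', hz', h4⟩ := h3
        have h5 : z'⁻¹ * (cj A' * β) z ∈ center (Matrix.SpecialLinearGroup (Fin n) F) := by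
          apply hker
          rw [map_mul, map_inv, h4, inv_mul_cancel]
        have h6 : (cj A' * β) z ∈ DS F n := by
          have e : (cj A' * β) z = z' * (z'⁻¹ * (cj A' * β) z) := by group
          rw [e]
          exact mul_mem hz' (center_le_DS (by omega) h5)
        exact mem_DS.1 h6) (by
        intro z hz hz'
        rw [hfh, hfh]
        have h3 := hf a ha (π z) (hmem ⟨z, hz⟩)
        rw [← h3]
        congr 1
        exact Subtype.ext (hα z).symm) hy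
    have e1 : l ⟨x, hQP' hx⟩ = LamS b (sf fh) ⟨y, m1⟩ := by
      rw [← hl y m1]
      congr 1
      exact Subtype.ext hyx.symm
    have e2 : l ⟨a x, hQP' (c.stab a ha x hx)⟩ = LamS b (sf fh) ⟨(cj A' * β) y, m2⟩ := by
      rw [← hl _ m2]
      congr 1
      apply Subtype.ext
      show a x = π ((cj A' * β) y)
      rw [← hα, hyx]
    rw [e1, e2, hinv]

end

end Cfsg.Agent.H755.Sd
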