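import Cfsg.Agent.H755.Sd.Weyl
import Cfsg.Agent.ClassicalGeometry.AutPSL.Auto

/-!
# S4579, `PSL_n`: the linear character of the parabolic subgroup and the automorphisms stabilising the torus (helper755)
-/

set_option autoImplicit false

namespace Cfsg.Agent.H755.Sd

open Subgroup Equiv Matrix
open Cfsg.Agent.H139.Bruhat Cfsg.Agent.H755.Sd.Syl Cfsg.Agent.H755.Sd.PermU Cfsg.Agent.H755.Sd.Par
open Cfsg.Agent.ClassicalGeometry.AutPSL.Auto
open scoped MatrixGroups

section

variable {F : Type*} [Field F] {n : ℕ}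

/-- a matrix normalising the diagonal matrices of determinant one is monomial -/
theorem exists_mon_of_diag {A : GL (Fin n) F} (hn : 3 ≤ n) (h2 : (-1 : Fˣ) ≠ 1)
    (h : ∀ t : Fin n → Fˣ, ∏ i, t i = 1 → ∃ t', A * dgl t = dgl t' * A) : ∃ d w, A = mon d w := by
  classical
  have huniq : ∀ p q r, (A : Matrix (Fin n) (Fin n) F) p q ≠ 0 → (A : Matrix (Fin n) (Fin n) F) p r ≠ 0 →
      q = r := by
    intro p q r hq hr
    by_contra hqr
    obtain ⟨m, hmq, hmr⟩ : ∃ m : Fin n, m ≠ q ∧ m ≠ r := by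
      by_contra hcon
      push Not at hcon
      have h1 : (Finset.univ : Finset (Fin n)) ⊆ {q, r} := by
        intro m _
        rw [Finset.mem_insert, Finset.mem_singleton]
        by_cases hm : m = q
        · exact Or.inl hm
        · exact Or.inr (hcon m hm)
      have h3 := Finset.card_le_card h1
      rw [Finset.card_univ, Fintype.card_fin] at h3
      have := Finset.card_le_two (a := q) (b := r)
      omega
    obtain ⟨t', ht'⟩ := h (Pi.mulSingle q (-1) * Pi.mulSingle m (-1)) (by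
      simp only [Pi.mul_apply, Finset.prod_mul_distrib]
      rw [Finset.prod_pi_mulSingle', Finset.prod_pi_mulSingle', if_pos (Finset.mem_univ _),
        if_pos (Finset.mem_univ _)]
      simp)
    have key : ∀ s, (A : Matrix (Fin n) (Fin n) F) p s ≠ 0 →
        (((Pi.mulSingle q (-1) * Pi.mulSingle m (-1) : Fin n → Fˣ) s : Fˣ) : F) = t' p := by
      intro s hs
      have h4 := congrArg (fun g : GL (Fin n) F => (g : Matrix (Fin n) (Fin n) F) p s) ht'
      simp only [Units.val_mul, coe_dgl, Matrix.mul_diagonal, Matrix.diagonal_mul] at h4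
      rw [mul_comm] at h4
      exact mul_right_cancel₀ hs h4
    have h5 := (key q hq).trans (key r hr).symm
    rw [Units.val_inj] at h5
    simp only [Pi.mul_apply] at h5
    rw [Pi.mulSingle_eq_same, Pi.mulSingle_eq_of_ne hmq.symm, Pi.mulSingle_eq_of_ne (Ne.symm hqr),
      Pi.mulSingle_eq_of_ne hmr.symm, mul_one, mul_one] at h5
    exact h2 h5
  have hex : ∀ p, ∃ q, (A : Matrix (Fin n) (Fin n) F) p q ≠ 0 := fun p => Function.ne_iff.1 (row_ne_zero A p)
  choose v hv using hex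
  have hsurj : Function.Surjective v := by
    intro q
    by_contra hcon
    push Not at hcon
    have h1 : IsUnit ((A : Matrix (Fin n) (Fin n) F)).det := (Matrix.isUnit_iff_isUnit_det _).1 A.isUnit
    rw [Matrix.det_eq_zero_of_column_eq_zero q (fun p => by
      by_contra hpq
      exact hcon p (huniq p _ _ (hv p) hpq))] at h1
    exact not_isUnit_zero h1
  have hbij : Function.Bijective v := ⟨Finite.injective_iff_surjective.2 hsurj, hsurj⟩
  refine ⟨fun p => Units.mk0 _ (hv p), (Equiv.ofBijective v hbij)⁻¹, ?_⟩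
  apply Units.ext
  ext p q
  rw [mon_apply, inv_inv]
  show _ = if v p = q then _ else _
  split_ifs with hpq
  · subst hpq
    rfl
  · by_contra hne
    exact hpq (huniq p _ _ (hv p) hne)

/-- field and graph automorphisms -/
structure Std (β : MulAut (Matrix.SpecialLinearGroup (Fin n) F)) (τ : Fˣ ≃* Fˣ) : Prop where
  diag : ∀ (x : Matrix.SpecialLinearGroup (Fin n) F) (t : Fin n → Fˣ),
    Matrix.SpecialLinearGroup.toGL x = dgl t → Matrix.SpecialLinearGroup.toGL (β x) = dgl fun i => τ (t i)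
  tvm : ∀ (i j : Fin n) (hij : i ≠ j) (c : F), (∃ c', β (tv hij c) = tv hij c') ∨ ∃ c', β (tv hij c) = tv hij.symm c'

theorem std_fld (σ : F ≃+* F) : Std (n := n) (fld σ) (Units.mapEquiv σ) where
  diag x t h := by
    apply Units.ext
    ext i j
    have h1 := congrArg (fun g : GL (Fin n) F => (g : Matrix (Fin n) (Fin n) F) i j) h
    simp only [coe_dgl] at h1 ⊢
    show σ ((x : Matrix (Fin n) (Fin n) F) i j) = _
    have h2 : (x : Matrix (Fin n) (Fin n) F) i j = Matrix.diagonal (fun i => (t i : F)) i j := h1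
    rw [h2, Matrix.diagonal_apply, Matrix.diagonal_apply]
    split_ifs
    · rfl
    · exact map_zero σ
  tvm i j hij c := Or.inl ⟨_, fld_transvection σ hij c⟩

theorem std_itr (σ : F ≃+* F) : Std (n := n) (fld σ * itr) ((MulEquiv.inv Fˣ).trans (Units.mapEquiv σ)) where
  diag x t h := by
    refine (std_fld σ).diag (itr x) (fun i => (t i)⁻¹) ?_
    have h0 : Matrix.SpecialLinearGroup.toGL x⁻¹ = dgl (t⁻¹) := by rw [map_inv, h, map_inv]
    apply Units.ext
    show (((x⁻¹ : Matrix.SpecialLinearGroup (Fin n) F) : Matrix (Fin n) (Fin n) F))ᵀ = _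
    have h1 : ((x⁻¹ : Matrix.SpecialLinearGroup (Fin n) F) : Matrix (Fin n) (Fin n) F) =
        Matrix.diagonal fun i => (((t⁻¹ : Fin n → Fˣ) i : Fˣ) : F) := congrArg Units.val h0
    rw [h1, Matrix.diagonal_transpose]
    rfl
  tvm i j hij c := Or.inr ⟨σ (-c), by
    show fld σ (itr (tv hij c)) = _
    rw [itr_transvection, fld_transvection]⟩

theorem toGL_cj (A : GL (Fin n) F) (g : Matrix.SpecialLinearGroup (Fin n) F) :
    Matrix.SpecialLinearGroup.toGL (cj A g) = A * Matrix.SpecialLinearGroup.toGL g * A⁻¹ := Units.ext rfl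

theorem mon_conj_mem {b : Fin n → Fin n} {d : Fin n → Fˣ} {w : Perm (Fin n)} {g : GL (Fin n) F}
    (h : g ∈ PB F (b ∘ w)) : mon d w * g * (mon d w)⁻¹ ∈ PB F b := by
  have h1 : permGL F n w * g * permGL F n w⁻¹ ∈ PB F b := by
    rw [mem_PB]
    intro p q hpq
    rw [Units.val_mul, mul_permGL_apply, Units.val_mul, permGL_mul_apply]
    refine h ?_
    show b (w (w⁻¹ q)) < b (w (w⁻¹ p))
    rwa [ais, ais]
  have h2 : mon d w * g * (mon d w)⁻¹ = dgl d * (permGL F n w * g * permGL F n w⁻¹) * (dgl d)⁻¹ := by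
    unfold mon
    rw [map_inv, _root_.mul_inv_rev]
    group
  rw [h2]
  exact mul_mem (mul_mem (dgl_mem d) h1) (inv_mem (dgl_mem d))

theorem tv_mem {b : Fin n → Fin n} {i j : Fin n} (hij : i ≠ j) (c : F) (h : b i = b j) : tv hij c ∈ PS F b := by
  show Matrix.SpecialLinearGroup.toGL (tv hij c) ∈ PB F b
  rw [mem_PB]
  intro p q hpq
  show (Matrix.transvection i j c) p q = 0
  have hne : p ≠ q := by
    rintro rfl
    exact lt_irrefl _ hpq
  unfold Matrix.transvection
  rw [Matrix.add_apply, Matrix.one_apply_ne hne, zero_add, Matrix.single_apply, if_neg]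
  rintro ⟨rfl, rfl⟩
  rw [h] at hpq
  exact lt_irrefl _ hpq

variable [Fintype F]

theorem tv_pow {i j : Fin n} (hij : i ≠ j) (c : F) : tv hij c ^ Fintype.card F = 1 := by
  have h1 : ∀ m : ℕ, tv hij c ^ m = tv hij (m • c) := by
    intro m
    induction m with
    | zero =>
      rw [pow_zero, zero_smul]
      exact (Matrix.SpecialLinearGroup.transvection_coeff_zero hij).symm
    | succ m ih => rw [pow_succ, ih, ← Matrix.SpecialLinearGroup.transvection_add, succ_nsmul]
  rw [h1, nsmul_eq_mul, FiniteField.cast_card_eq_zero, zero_mul]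
  exact Matrix.SpecialLinearGroup.transvection_coeff_zero hij

end

section Main

variable {F : Type*} [Field F] [Fintype F] {n : ℕ} {D : TD F n} {fh : ↥D.QH →* ℂˣ}

open TD

theorem LamS_odd (hodd : Odd (Fintype.card F)) {b : Fin n → Fin n} {x : PS F b} (hx : x ^ Fintype.card F = 1) :
    LamS b (sf fh) x = 1 := by
  obtain ⟨k, hk⟩ := LamS_pow (fh := fh) (b := b)
  have h1 : LamS b (sf fh) x ^ Fintype.card F = 1 := by rw [← map_pow, hx, map_one]
  have h2 := Nat.dvd_gcd (orderOf_dvd_of_pow_eq_one h1) (orderOf_dvd_of_pow_eq_one (hk x))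
  have h3 : Nat.gcd (Fintype.card F) (2 ^ k) = 1 := Nat.Coprime.pow_right k (Nat.coprime_two_right.2 hodd)
  rw [h3, Nat.dvd_one, orderOf_eq_one_iff] at h2
  exact h2

omit [Fintype F] in
theorem Phi_inv {γ : MulAut (Matrix.SpecialLinearGroup (Fin n) F)} {w : Perm (Fin n)} {τ : Fˣ ≃* Fˣ}
    (hγ : ∀ (x : Matrix.SpecialLinearGroup (Fin n) F) (t : Fin n → Fˣ),
      Matrix.SpecialLinearGroup.toGL x = dgl t →
      Matrix.SpecialLinearGroup.toGL (γ x) = dgl fun i => τ (t (w⁻¹ i)))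
    (hinv : ∀ (y : Matrix.SpecialLinearGroup (Fin n) F) (hy : y ∈ D.QH) (hy' : γ y ∈ D.QH),
      fh ⟨γ y, hy'⟩ = fh ⟨y, hy⟩) {t : Fin n → Fˣ} (ht : ∏ i, t i = 1) :
    Phi fh (fun i => τ (t (w⁻¹ i))) = Phi fh t := by
  have hy : dgS D.i0 (t ^ D.e) ∈ D.QH := dgS_mem fun i => D.he (t i)
  have e1 : Matrix.SpecialLinearGroup.toGL (dgS D.i0 (t ^ D.e)) = dgl (t ^ D.e) := by
    rw [toGL_dgS, map_pow, cor_of_prod ht]
  have e2 := hγ _ _ e1
  have hm : ∀ i, τ ((t ^ D.e) (w⁻¹ i)) ∈ (D.K : Subgroup Fˣ) := by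
    intro i
    rw [Pi.pow_apply, map_pow]
    exact D.he _
  have hy' : γ (dgS D.i0 (t ^ D.e)) ∈ D.QH := by
    rw [mem_QH]
    exact ⟨_, 1, hm, one_mem _, by rw [e2, mon_one_right]⟩
  have h1 := hinv _ hy hy'
  have h2 : fh ⟨γ (dgS D.i0 (t ^ D.e)), hy'⟩ = Phi fh (fun i => τ (t (w⁻¹ i))) := by
    rw [fh_dgl fh (x := ⟨γ (dgS D.i0 (t ^ D.e)), hy'⟩) hm e2, ← Phi_pow, Phi_eq]
    refine Finset.prod_congr rfl fun i _ => ?_
    rw [Pi.pow_apply, Pi.pow_apply, map_pow]
  rw [← h2, h1]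
  rfl

/-- **The invariance.** -/
theorem LamS_invariant (hodd : Odd (Fintype.card F)) {b : Fin n → Fin n} (hb1 : ∀ i, sf fh (b i) = sf fh i)
    (hb2 : ∀ i j, b i = b j ↔ sf fh i = sf fh j) (hW : (D.W : Subgroup (Perm (Fin n))) ≤ Yst (sf fh))
    {γ β : MulAut (Matrix.SpecialLinearGroup (Fin n) F)} {A : GL (Fin n) F} {τ : Fˣ ≃* Fˣ} (hγβ : γ = cj A * β)
    (hβ : Std β τ) (hn : 3 ≤ n)
    (hdiag : ∀ (x : Matrix.SpecialLinearGroup (Fin n) F) (t : Fin n → Fˣ),
      Matrix.SpecialLinearGroup.toGL x = dgl t → ∃ t', Matrix.SpecialLinearGroup.toGL (γ x) = dgl t')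
    (hinv : ∀ (y : Matrix.SpecialLinearGroup (Fin n) F) (hy : y ∈ D.QH) (hy' : γ y ∈ D.QH),
      fh ⟨γ y, hy'⟩ = fh ⟨y, hy⟩) {x : Matrix.SpecialLinearGroup (Fin n) F} (hx : x ∈ D.QH) :
    ∃ (h : x ∈ PS F b) (h' : γ x ∈ PS F b), LamS b (sf fh) ⟨γ x, h'⟩ = LamS b (sf fh) ⟨x, h⟩ := by
  have hγ : ∀ x, Matrix.SpecialLinearGroup.toGL (γ x) = A * Matrix.SpecialLinearGroup.toGL (β x) * A⁻¹ := by
    intro x
    rw [hγβ]
    exact toGL_cj A (β x)
  -- `A` is monomial
  have hneg : (-1 : Fˣ) ≠ 1 := by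
    intro h
    have h1 : (-1 : F) = 1 := by
      have := congrArg Units.val h
      simpa using this
    have h2 : (2 : F) = 0 := by
      have : (1 : F) + 1 = 0 := by
        nth_rewrite 1 [← h1]
        ring
      rw [← this]
      norm_num
    obtain ⟨m, hm⟩ := hodd
    have h3 := FiniteField.cast_card_eq_zero F
    rw [hm, Nat.cast_add, Nat.cast_mul, Nat.cast_two, h2, zero_mul, zero_add, Nat.cast_one] at h3
    exact one_ne_zero h3
  obtain ⟨d, w, hA⟩ : ∃ d w, A = mon d w := by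
    refine exists_mon_of_diag hn hneg fun t ht => ?_
    have hdet : ((dgl (fun i => τ.symm (t i)) : GL (Fin n) F) : Matrix (Fin n) (Fin n) F).det = 1 := by
      rw [coe_dgl, Matrix.det_diagonal, ← Units.coe_prod, ← map_prod, ht, map_one, Units.val_one]
    obtain ⟨t', ht'⟩ := hdiag _ _ (toGL_ofGL _ hdet)
    refine ⟨t', ?_⟩
    rw [hγ, hβ.diag _ _ (toGL_ofGL _ hdet)] at ht'
    simp only [MulEquiv.apply_symm_apply] at ht'
    rw [← ht', inv_mul_cancel_right]
  have hγd : ∀ (x : Matrix.SpecialLinearGroup (Fin n) F) (t : Fin n → Fˣ),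
      Matrix.SpecialLinearGroup.toGL x = dgl t →
      Matrix.SpecialLinearGroup.toGL (γ x) = dgl fun i => τ (t (w⁻¹ i)) := by
    intro x t hxt
    rw [hγ, hβ.diag _ _ hxt, hA, mon_conj_dgl]
  have hPhi : ∀ t : Fin n → Fˣ, ∏ i, t i = 1 → Phi fh (fun i => τ (t (w⁻¹ i))) = Phi fh t :=
    fun t ht => Phi_inv hγd hinv ht
  -- the fibres of `s` are permuted
  have hw : ∀ i j, sf fh i = sf fh j → sf fh (w i) = sf fh (w j) := by
    intro i j hij
    have h1 := semi_of_prod D.i0 (r := fun i => (sf fh (w i)).comp τ.toMonoidHom) (r' := sf fh) (by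
      intro t ht
      rw [← Phi_eq, ← hPhi t ht, Phi_eq, ← Equiv.prod_comp w (fun i => sf fh i (τ (t (w⁻¹ i))))]
      refine Finset.prod_congr rfl fun i _ => ?_
      rw [ias]
      rfl)
    have h2 : (sf fh (w i)).comp τ.toMonoidHom = (sf fh (w j)).comp τ.toMonoidHom := by
      rw [h1 i, h1 j, hij]
    apply MonoidHom.ext
    intro a
    have h3 := DFunLike.congr_fun h2 (τ.symm a)
    simpa using h3
  -- the subgroup on which the characters agree
  let E : Subgroup (Matrix.SpecialLinearGroup (Fin n) F) :=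
    { carrier := {x | ∃ (h : x ∈ PS F b) (h' : γ x ∈ PS F b), LamS b (sf fh) ⟨γ x, h'⟩ = LamS b (sf fh) ⟨x, h⟩}
      one_mem' := ⟨one_mem _, by rw [map_one]; exact one_mem _, by
        have e : (⟨γ 1, by rw [map_one]; exact one_mem _⟩ : PS F b) = 1 := Subtype.ext (map_one γ)
        exact (congrArg (LamS b (sf fh)) e)⟩
      mul_mem' := by
        rintro x y ⟨h1, h1', hx⟩ ⟨h2, h2', hy⟩
        refine ⟨mul_mem h1 h2, by rw [map_mul]; exact mul_mem h1' h2', ?_⟩
        have e : (⟨γ (x * y), by rw [map_mul]; exact mul_mem h1' h2'⟩ : PS F b) = ⟨γ x, h1'⟩ * ⟨γ y, h2'⟩ :=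
          Subtype.ext (map_mul γ x y)
        rw [e, map_mul, hx, hy, ← map_mul]
        rfl
      inv_mem' := by
        rintro x ⟨h1, h1', hx⟩
        refine ⟨inv_mem h1, by rw [map_inv]; exact inv_mem h1', ?_⟩
        have e : (⟨γ x⁻¹, by rw [map_inv]; exact inv_mem h1'⟩ : PS F b) = ⟨γ x, h1'⟩⁻¹ :=
          Subtype.ext (map_inv γ x)
        rw [e, map_inv, hx, ← map_inv]
        rfl }
  obtain ⟨d', σ, -, hσ, hx'⟩ := mem_QH.1 hx
  refine mem_of_mon (s := sf fh) (E := E) ?_ ?_ (hW hσ) hx'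
  · -- diagonal matrices
    intro x t hxt
    have hprod : ∏ i, t i = 1 := by
      apply Units.ext
      have h1 := congrArg (fun g : GL (Fin n) F => (g : Matrix (Fin n) (Fin n) F).det) hxt
      simp only [coe_dgl, Matrix.det_diagonal] at h1
      rw [Units.coe_prod, ← h1, Units.val_one]
      exact x.2
    have m1 : x ∈ PS F b := by
      show Matrix.SpecialLinearGroup.toGL x ∈ PB F b
      rw [hxt]
      exact dgl_mem t
    have m2 : γ x ∈ PS F b := by
      show Matrix.SpecialLinearGroup.toGL (γ x) ∈ PB F b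
      rw [hγd x t hxt]
      exact dgl_mem _
    refine ⟨m1, m2, ?_⟩
    rw [LamS_dgl hb1 (x := ⟨γ x, m2⟩) (hγd x t hxt), LamS_dgl hb1 (x := ⟨x, m1⟩) hxt, ← Phi_eq, ← Phi_eq]
    exact hPhi t hprod
  · -- root elements
    intro i j hij c hs
    have m1 : tv hij c ∈ PS F b := tv_mem hij c ((hb2 i j).2 hs)
    have m2 : γ (tv hij c) ∈ PS F b := by
      show Matrix.SpecialLinearGroup.toGL (γ (tv hij c)) ∈ PB F b
      rw [hγ, hA]
      apply mon_conj_mem
      have hbw : (b ∘ w) i = (b ∘ w) j := (hb2 _ _).2 (hw i j hs)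
      rcases hβ.tvm i j hij c with ⟨c', hc'⟩ | ⟨c', hc'⟩
      · rw [hc']
        exact tv_mem hij c' hbw
      · rw [hc']
        exact tv_mem hij.symm c' hbw.symm
    refine ⟨m1, m2, ?_⟩
    rw [LamS_odd hodd (x := ⟨tv hij c, m1⟩) (Subtype.ext (tv_pow hij c)),
      LamS_odd hodd (x := ⟨γ (tv hij c), m2⟩) (Subtype.ext (by
        show γ (tv hij c) ^ Fintype.card F = 1
        rw [← map_pow, tv_pow, map_one]))]

end Main

end Cfsg.Agent.H755.Sd
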