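import Cfsg.Agent.H755.Sd.Syl

/-!
# S4579, `PSL_n`: block triangular matrices and their linear characters (helper755)

`b : Fin n → Fin n` is a map, `PB b` the group of the block triangular matrices, `Lam b s : PB b →* ℂˣ` the product of
the `s k (det (k-th diagonal block))`.
-/

set_option autoImplicit false

namespace Cfsg.Agent.H755.Sd.Par

open Subgroup Equiv Matrix
open Cfsg.Agent.H139.Bruhat Cfsg.Agent.H755.Sd.Syl
open scoped MatrixGroups

variable {F : Type*} [Field F] {n : ℕ} {b : Fin n → Fin n}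

/-- the block triangular group -/
def PB (F : Type*) [Field F] {n : ℕ} (b : Fin n → Fin n) : Subgroup (GL (Fin n) F) where
  carrier := {g | (g : Matrix (Fin n) (Fin n) F).BlockTriangular b}
  mul_mem' := fun {x} {y} hx hy => by
    change ((x : Matrix (Fin n) (Fin n) F) * (y : Matrix (Fin n) (Fin n) F)).BlockTriangular b
    exact Matrix.BlockTriangular.mul hx hy
  one_mem' := by
    change (1 : Matrix (Fin n) (Fin n) F).BlockTriangular b
    exact Matrix.blockTriangular_one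
  inv_mem' := fun {x} hx => by
    change ((x⁻¹ : GL (Fin n) F) : Matrix (Fin n) (Fin n) F).BlockTriangular b
    have : Invertible (x : Matrix (Fin n) (Fin n) F) := x.invertible
    rw [Matrix.coe_units_inv]
    exact Matrix.blockTriangular_inv_of_blockTriangular hx

theorem mem_PB {g : GL (Fin n) F} : g ∈ PB F b ↔ (g : Matrix (Fin n) (Fin n) F).BlockTriangular b := Iff.rfl

theorem square_mul {A B : Matrix (Fin n) (Fin n) F} (hA : A.BlockTriangular b) (hB : B.BlockTriangular b)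
    (k : Fin n) : (A * B).toSquareBlock b k = A.toSquareBlock b k * B.toSquareBlock b k := by
  ext i j
  rw [toSquareBlock_def, toSquareBlock_def, toSquareBlock_def, Matrix.mul_apply, Matrix.of_apply, Matrix.mul_apply,
    ← Fintype.sum_subtype_add_sum_subtype (fun l => b l = k) (fun l => A i l * B l j)]
  have h : ∑ l : {l // ¬ b l = k}, A i l * B l j = 0 := by
    refine Finset.sum_eq_zero fun l _ => ?_
    rcases lt_or_gt_of_ne l.2 with h1 | h1
    · rw [hA (by rw [i.2]; exact h1), zero_mul]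
    · rw [hB (by rw [j.2]; exact h1), mul_zero]
  rw [h, add_zero]
  rfl

/-- the determinant of the `k`-th block -/
noncomputable def detB (k : Fin n) : PB F b →* F where
  toFun g := (((g : GL (Fin n) F) : Matrix (Fin n) (Fin n) F).toSquareBlock b k).det
  map_one' := by
    have : (((1 : PB F b) : GL (Fin n) F) : Matrix (Fin n) (Fin n) F).toSquareBlock b k = 1 := by
      ext i j
      show (1 : Matrix (Fin n) (Fin n) F) i j = _
      rw [Matrix.one_apply, Matrix.one_apply]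
      simp only [Subtype.ext_iff]
    rw [this, Matrix.det_one]
  map_mul' x y := by
    rw [← Matrix.det_mul, ← square_mul x.2 y.2]
    rfl

/-- the determinant of the `k`-th block as a unit -/
noncomputable def Dk (k : Fin n) : PB F b →* Fˣ := (detB k).toHomUnits

theorem coe_Dk (k : Fin n) (g : PB F b) :
    (Dk k g : F) = (((g : GL (Fin n) F) : Matrix (Fin n) (Fin n) F).toSquareBlock b k).det := rfl

/-- the linear character -/
noncomputable def Lam (s : Fin n → (Fˣ →* ℂˣ)) : PB F b →* ℂˣ := ∏ k, (s k).comp (Dk k)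

theorem Lam_apply (s : Fin n → (Fˣ →* ℂˣ)) (g : PB F b) : Lam s g = ∏ k, s k (Dk k g) := by
  unfold Lam
  rw [MonoidHom.finsetProd_apply]
  rfl

theorem dgl_mem (t : Fin n → Fˣ) : dgl t ∈ PB F b := by
  rw [mem_PB, coe_dgl]
  exact Matrix.blockTriangular_diagonal _

theorem perm_mem {σ : Perm (Fin n)} (h : ∀ i, b (σ i) = b i) : permGL F n σ ∈ PB F b := by
  rw [mem_PB]
  intro i j hij
  rw [permGL_apply, if_neg]
  rintro rfl
  have := h (σ⁻¹ i)
  rw [show σ (σ⁻¹ i) = i from σ.apply_symm_apply i] at this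
  rw [this] at hij
  exact lt_irrefl _ hij

theorem Dk_dgl (k : Fin n) (t : Fin n → Fˣ) :
    Dk k (⟨dgl t, dgl_mem t⟩ : PB F b) = ∏ i : {i // b i = k}, t i := by
  apply Units.ext
  rw [coe_Dk]
  have : ((dgl t : GL (Fin n) F) : Matrix (Fin n) (Fin n) F).toSquareBlock b k =
      Matrix.diagonal fun i : {i // b i = k} => (t i : F) := by
    ext i j
    show (Matrix.diagonal fun i => (t i : F)) (i : Fin n) (j : Fin n) = _
    rw [Matrix.diagonal_apply, Matrix.diagonal_apply]
    simp only [Subtype.ext_iff]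
  show ((((dgl t : GL (Fin n) F) : Matrix (Fin n) (Fin n) F)).toSquareBlock b k).det = _
  rw [this, Matrix.det_diagonal, Units.coe_prod]

theorem Lam_dgl {s : Fin n → (Fˣ →* ℂˣ)} (hs : ∀ i, s (b i) = s i) (t : Fin n → Fˣ) :
    Lam s (⟨dgl t, dgl_mem t⟩ : PB F b) = ∏ i, s i (t i) := by
  rw [Lam_apply]
  have h1 : ∀ k, s k (Dk k (⟨dgl t, dgl_mem t⟩ : PB F b)) = ∏ i : {i // b i = k}, s i (t i) := by
    intro k
    rw [Dk_dgl, map_prod]
    refine Finset.prod_congr rfl fun i _ => ?_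
    have h2 : s k = s i := by rw [← hs i, i.2]
    rw [h2]
  rw [Finset.prod_congr rfl fun k _ => h1 k]
  exact Fintype.prod_fiberwise b (fun i => s i (t i))

theorem mul_permGL_apply (σ : Perm (Fin n)) (M : Matrix (Fin n) (Fin n) F) (i j : Fin n) :
    (M * ((permGL F n σ : GL (Fin n) F) : Matrix (Fin n) (Fin n) F)) i j = M i (σ j) := by
  rw [Matrix.mul_apply, Finset.sum_eq_single (σ j)]
  · rw [permGL_apply, if_pos (show σ⁻¹ (σ j) = j from σ.symm_apply_apply j), mul_one]
  · intro l _ hl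
    rw [permGL_apply, if_neg, mul_zero]
    rintro rfl
    exact hl (σ.apply_symm_apply l).symm
  · intro h
    exact absurd (Finset.mem_univ _) h

theorem conj_upper {ρ : Perm (Fin n)} (hρ : Monotone (b ∘ ρ)) {u : GL (Fin n) F}
    (hu : u ∈ Cfsg.upperTriangularGL n F) : permGL F n ρ * u * permGL F n ρ⁻¹ ∈ PB F b := by
  rw [mem_PB]
  intro i j hij
  rw [Units.val_mul, mul_permGL_apply, Units.val_mul, permGL_mul_apply]
  refine hu ?_
  show ρ⁻¹ j < ρ⁻¹ i
  by_contra hcon
  have h1 := hρ (not_lt.1 hcon)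
  simp only [Function.comp] at h1
  rw [show ρ (ρ⁻¹ i) = i from ρ.apply_symm_apply i, show ρ (ρ⁻¹ j) = j from ρ.apply_symm_apply j] at h1
  exact absurd hij (not_lt.2 h1)

/-- The Bruhat decomposition relative to `b`. -/
theorem bruhat_b (b : Fin n → Fin n) (g : GL (Fin n) F) :
    ∃ u ∈ PB F b, ∃ σ : Perm (Fin n), ∃ v ∈ PB F b, g = u * permGL F n σ * v := by
  obtain ⟨u, hu, σ, v, hv, h⟩ := bruhat ((permGL F n (Tuple.sort b))⁻¹ * g * permGL F n (Tuple.sort b))
  have hm : Monotone (b ∘ Tuple.sort b) := Tuple.monotone_sort b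
  refine ⟨_, conj_upper hm hu, Tuple.sort b * σ * (Tuple.sort b)⁻¹, _, conj_upper hm hv, ?_⟩
  set ρ := Tuple.sort b
  have h1 : g = permGL F n ρ * (u * permGL F n σ * v) * (permGL F n ρ)⁻¹ := by
    rw [← h]
    group
  rw [h1, map_mul, map_mul, map_inv]
  group

/-- **The key elements for Mackey's criterion.** -/
theorem exists_mackey {s : Fin n → (Fˣ →* ℂˣ)} (hs : ∀ i, s (b i) = s i) (g : GL (Fin n) F) :
    ∃ σ : Perm (Fin n), ((∀ i, b (σ i) = b i) → g ∈ PB F b) ∧
      ∀ t : Fin n → Fˣ, ∃ y : PB F b, ∃ hy : g⁻¹ * y * g ∈ PB F b,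
        ((y : GL (Fin n) F) : Matrix (Fin n) (Fin n) F).det = ∏ i, (t i : F) ∧ Lam s y = ∏ i, s i (t i) ∧
        Lam s (⟨g⁻¹ * y * g, hy⟩ : PB F b) = ∏ i, s i (t (σ i)) := by
  obtain ⟨u, hu, σ, v, hv, rfl⟩ := bruhat_b b g
  refine ⟨σ, fun h => mul_mem (mul_mem hu (perm_mem h)) hv, ?_⟩
  intro t
  have e : (u * permGL F n σ * v)⁻¹ * (u * dgl t * u⁻¹) * (u * permGL F n σ * v) =
      v⁻¹ * dgl (fun i => t (σ i)) * v := by
    have h1 : (permGL F n σ)⁻¹ * dgl t * permGL F n σ = dgl (fun i => t (σ i)) := by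
      have h2 := permGL_mul_dgl (F := F) σ⁻¹ t
      rw [inv_inv] at h2
      rw [← map_inv, h2, mul_assoc, ← map_mul, inv_mul_cancel, map_one, mul_one]
    rw [← h1]
    group
  have hm : u * dgl t * u⁻¹ ∈ PB F b := mul_mem (mul_mem hu (dgl_mem t)) (inv_mem hu)
  have hm' : v⁻¹ * dgl (fun i => t (σ i)) * v ∈ PB F b := mul_mem (mul_mem (inv_mem hv) (dgl_mem _)) hv
  refine ⟨⟨_, hm⟩, by rw [e]; exact hm', ?_, ?_, ?_⟩
  · show ((u * dgl t * u⁻¹ : GL (Fin n) F) : Matrix (Fin n) (Fin n) F).det = _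
    have h3 : Matrix.GeneralLinearGroup.det (u * dgl t * u⁻¹) = Matrix.GeneralLinearGroup.det (dgl (F := F) t) := by
      rw [map_mul, map_mul, map_inv, mul_right_comm, mul_inv_cancel, one_mul]
    have h4 := congrArg Units.val h3
    change ((u * dgl t * u⁻¹ : GL (Fin n) F) : Matrix (Fin n) (Fin n) F).det =
      ((dgl t : GL (Fin n) F) : Matrix (Fin n) (Fin n) F).det at h4
    rw [h4, coe_dgl, Matrix.det_diagonal]
  · have h5 : (⟨u * dgl t * u⁻¹, hm⟩ : PB F b) = ⟨u, hu⟩ * ⟨dgl t, dgl_mem t⟩ * ⟨u, hu⟩⁻¹ := rfl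
    rw [h5, map_mul, map_mul, map_inv, mul_right_comm, mul_inv_cancel, one_mul, Lam_dgl hs]
  · have h6 : (⟨(u * permGL F n σ * v)⁻¹ * (u * dgl t * u⁻¹) * (u * permGL F n σ * v), by rw [e]; exact hm'⟩ :
        PB F b) = ⟨v, hv⟩⁻¹ * ⟨dgl (fun i => t (σ i)), dgl_mem _⟩ * ⟨v, hv⟩ := Subtype.ext e
    refine (congrArg (Lam s) h6).trans ?_
    rw [map_mul, map_mul, map_inv, mul_right_comm, inv_mul_cancel, one_mul, Lam_dgl hs]

end Cfsg.Agent.H755.Sd.Par
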