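import Cfsg.Agent.H55.Sd.Norm
import Cfsg.Agent.H643.Sd.Basic
import Cfsg.Agent.S4623

/-!
# S4579, `PSL_n`: permutation groups (helper755)

`W` is a `2`-subgroup of odd index in the symmetric group on `α`, and `|α|` is not a power of two.

* `mem_of_normalizes` : if `H` has odd index, `σ` normalises `H` and `σ ^ 2 ^ k ∈ H` then `σ ∈ H`;
* `Yst s` : the stabiliser of a function `s`; `mem_Yst_mul`, `mem_Yst_inv`;
* `semi_const` : a function which is semi-invariant under `W` is invariant;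
* `exists_swap_mem`, `sq_eq_one_of_hom`.
-/

set_option autoImplicit false

namespace Cfsg.Agent.H755.Sd.PermU

open Subgroup Equiv

section Gen

variable {G : Type*} [Group G]

/-- if `H` has odd index, `σ` normalises `H` and `σ ^ 2 ^ k ∈ H` then `σ ∈ H` -/
theorem mem_of_normalizes [Finite G] {H : Subgroup G} (hodd : Odd H.index) {σ : G}
    (hn : ∀ h ∈ H, σ * h * σ⁻¹ ∈ H) {k : ℕ} (hk : σ ^ 2 ^ k ∈ H) : σ ∈ H := by
  have hN : σ ∈ normalizer (H : Set G) := by
    have h1 : H.map (MulAut.conj σ).toMonoidHom ≤ H := by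
      rintro _ ⟨x, hx, rfl⟩
      exact hn x hx
    have h2 : H.map (MulAut.conj σ).toMonoidHom = H :=
      eq_of_le_of_card_ge h1 (by
        rw [Nat.card_congr (H.equivMapOfInjective (MulAut.conj σ).toMonoidHom (MulAut.conj σ).injective).toEquiv])
    rw [mem_normalizer_iff]
    intro x
    constructor
    · exact hn x
    · intro hx
      have hx' : σ * x * σ⁻¹ ∈ H := hx
      rw [← h2] at hx'
      obtain ⟨y, hy, hyx⟩ := hx'
      have : y = x := (MulAut.conj σ).injective hyx
      exact this ▸ hy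
  have hdvd : (H.subgroupOf (normalizer (H : Set G))).index ∣ H.index :=
    ⟨_, (relIndex_mul_index le_normalizer).symm⟩
  have hodd' : Odd (H.subgroupOf (normalizer (H : Set G))).index := hodd.of_dvd_nat hdvd
  let q : normalizer (H : Set G) ⧸ H.subgroupOf (normalizer (H : Set G)) :=
    QuotientGroup.mk ⟨σ, hN⟩
  have hq : q ^ 2 ^ k = 1 := by
    rw [← QuotientGroup.mk_pow, QuotientGroup.eq_one_iff]
    exact hk
  have h3 := orderOf_dvd_of_pow_eq_one hq
  have h4 : orderOf q ∣ (H.subgroupOf (normalizer (H : Set G))).index := orderOf_dvd_natCard q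
  have h5 : Nat.Coprime (2 ^ k) (H.subgroupOf (normalizer (H : Set G))).index :=
    Nat.Coprime.pow_left k (Nat.coprime_two_left.2 hodd')
  have h6 := Nat.dvd_gcd h3 h4
  rw [h5, Nat.dvd_one, orderOf_eq_one_iff, QuotientGroup.eq_one_iff] at h6
  exact h6

end Gen

section Perm

variable {α : Type*} {X : Type*}

theorem ais (σ : Perm α) (x : α) : σ (σ⁻¹ x) = x := σ.apply_symm_apply x

theorem ias (σ : Perm α) (x : α) : σ⁻¹ (σ x) = x := σ.symm_apply_apply x

/-- the stabiliser of a function -/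
def Yst (s : α → X) : Subgroup (Perm α) where
  carrier := {σ | ∀ i, s (σ i) = s i}
  one_mem' := fun _ => rfl
  mul_mem' := fun {a b} ha hb i => (ha (b i)).trans (hb i)
  inv_mem' := fun {a} ha i => by
    have := ha (a⁻¹ i)
    rw [ais] at this
    exact this.symm

theorem mem_Yst {s : α → X} {σ : Perm α} : σ ∈ Yst s ↔ ∀ i, s (σ i) = s i := Iff.rfl

variable [Finite α] [CommGroup X]

theorem mem_Yst_mul {s : α → X} (hodd : Odd (Yst s).index) {σ : Perm α} {c : X} (hσ : ∀ i, s (σ i) = c * s i)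
    {k : ℕ} (hc : c ^ 2 ^ k = 1) : σ ∈ Yst s := by
  refine mem_of_normalizes hodd (k := k) ?_ ?_
  · intro τ hτ i
    rw [Perm.mul_apply, Perm.mul_apply, hσ, hτ, ← hσ, ais]
  · have h1 : ∀ n : ℕ, ∀ i, s ((σ ^ n) i) = c ^ n * s i := by
      intro n
      induction n with
      | zero => intro i; simp
      | succ n ih => intro i; rw [pow_succ', Perm.mul_apply, hσ, ih, pow_succ', mul_assoc]
    intro i
    rw [h1, hc, one_mul]

theorem mem_Yst_inv {s : α → X} (hodd : Odd (Yst s).index) {σ : Perm α} {c : X} (hσ : ∀ i, s (σ i) * s i = c) :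
    σ ∈ Yst s := by
  refine mem_of_normalizes hodd (k := 1) ?_ ?_
  · intro τ hτ i
    rw [Perm.mul_apply, Perm.mul_apply, eq_mul_inv_of_mul_eq (hσ _), hτ, ← eq_mul_inv_of_mul_eq (hσ _),
      ais]
  · intro i
    rw [pow_one, pow_two, Perm.mul_apply, eq_mul_inv_of_mul_eq (hσ _), eq_mul_inv_of_mul_eq (hσ i), mul_inv_rev,
      inv_inv, mul_comm (s i), mul_inv_cancel_left]

end Perm

section Orbit

variable {α : Type*}

/-- the permutations fixing the complement of `O` -/
def NO (O : Set α) : Subgroup (Perm α) where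
  carrier := {σ | ∀ x, x ∉ O → σ x = x}
  one_mem' := fun _ _ => rfl
  mul_mem' := fun {a b} ha hb x hx => by rw [Perm.mul_apply, hb x hx, ha x hx]
  inv_mem' := fun {a} ha x hx => by rw [Perm.inv_eq_iff_eq]; exact (ha x hx).symm

theorem mem_NO {O : Set α} {σ : Perm α} : σ ∈ NO O ↔ ∀ x, x ∉ O → σ x = x := Iff.rfl

variable [Finite α] [DecidableEq α]

/-- the key transitivity statement -/
theorem exists_fix {W : Subgroup (Perm α)} (hW2 : IsPGroup 2 W) (hW : Odd W.index)
    (hα : ∀ k, Nat.card α ≠ 2 ^ k) {i j : α} (hij : ∃ σ ∈ W, σ i = j) :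
    ∃ τ ∈ W, τ i = j ∧ ∃ k, τ k = k := by
  have h2 : Fact (Nat.Prime 2) := ⟨Nat.prime_two⟩
  set O : Set α := MulAction.orbit W i with hO
  have hjO : j ∈ O := by
    obtain ⟨σ, hσ, rfl⟩ := hij
    exact ⟨⟨σ, hσ⟩, rfl⟩
  have hiO : i ∈ O := MulAction.mem_orbit_self i
  have hOW : ∀ w ∈ W, ∀ x, w x ∈ O ↔ x ∈ O := by
    intro w hw x
    have h1 : w x = (⟨w, hw⟩ : W) • x := rfl
    rw [h1, hO, ← MulAction.orbit_eq_iff, MulAction.orbit_smul, MulAction.orbit_eq_iff]
  -- a point outside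
  obtain ⟨a, ha⟩ := hW2.card_orbit i
  obtain ⟨k, hk⟩ : ∃ k, k ∉ O := by
    by_contra hcon
    push Not at hcon
    apply hα a
    rw [← ha]
    have : O = Set.univ := Set.eq_univ_of_forall hcon
    rw [← hO, this]
    exact (Nat.card_congr (Equiv.Set.univ α)).symm
  -- `W ∩ N_O` has odd index in `N_O`
  have hnor : ∀ r ∈ W, ∀ ν ∈ NO O, r * ν * r⁻¹ ∈ NO O := by
    intro r hr ν hν x hx
    have h1 : r⁻¹ x ∉ O := by
      rwa [hOW _ (W.inv_mem hr)]
    rw [Perm.mul_apply, Perm.mul_apply, hν _ h1, ais]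
  have hoddN : Odd (W.relIndex (NO O)) := by
    have h1 := Cfsg.Agent.H55.Sd.relIndex_eq_of_mul (I := NO O) (K := W) (L := NO O ⊔ W) le_sup_left
      (fun l hl => Cfsg.Agent.H55.Sd.exists_mul_of_sup hnor hl)
    rw [← h1]
    exact hW.of_dvd_nat ⟨_, (relIndex_mul_index le_sup_right).symm⟩
  -- transitivity
  let N := NO O
  have hN : MulAction.orbit N i = O := by
    apply Set.Subset.antisymm
    · rintro _ ⟨⟨ν, hν⟩, rfl⟩
      by_contra hcon
      have h1 := hν _ hcon
      have h2 : ν i = i := ν.injective h1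
      apply hcon
      show ν i ∈ O
      rw [h2]
      exact hiO
    · intro x hx
      refine ⟨⟨swap i x, ?_⟩, ?_⟩
      · intro y hy
        refine swap_apply_of_ne_of_ne ?_ ?_
        · rintro rfl
          exact hy hiO
        · rintro rfl
          exact hy hx
      · exact swap_apply_left i x
  let B : Subgroup N := W.subgroupOf N
  have hBodd : Odd B.index := hoddN
  have h1 : (MulAction.stabilizer N i).index = 2 ^ a := by
    rw [MulAction.index_stabilizer, hN, ← Nat.card_coe_set_eq]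
    exact ha
  have h3 : (MulAction.stabilizer N i).index ∣ (MulAction.stabilizer N i).relIndex B * B.index := by
    rw [← inf_relIndex_right, relIndex_mul_index inf_le_right]
    exact index_dvd_of_le inf_le_left
  rw [h1] at h3
  have h4 : 2 ^ a ∣ (MulAction.stabilizer N i).relIndex B :=
    (Nat.Coprime.pow_left a (Nat.coprime_two_left.2 hBodd)).dvd_of_dvd_mul_right h3
  have h5 : (MulAction.stabilizer N i).relIndex B = (MulAction.orbit B i).ncard := by
    rw [← MulAction.index_stabilizer]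
    rfl
  have h6 : MulAction.orbit B i ⊆ O := by
    rintro _ ⟨b, rfl⟩
    rw [← hN]
    exact ⟨b.1, rfl⟩
  have h7 : MulAction.orbit B i = O := by
    apply Set.eq_of_subset_of_ncard_le h6
    rw [h5] at h4
    have h8 : O.ncard = 2 ^ a := by rw [← Nat.card_coe_set_eq]; exact ha
    rw [h8]
    refine Nat.le_of_dvd ?_ h4
    rw [Set.ncard_pos]
    exact ⟨i, MulAction.mem_orbit_self i⟩
  rw [← h7] at hjO
  obtain ⟨b, hb⟩ := hjO
  exact ⟨b.1.1, b.2, hb, k, b.1.2 k hk⟩

/-- **A function which is semi-invariant under `W` is invariant.** -/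
theorem semi_const {X : Type*} [CommGroup X] {W : Subgroup (Perm α)} (hW2 : IsPGroup 2 W) (hW : Odd W.index)
    (hα : ∀ k, Nat.card α ≠ 2 ^ k) {s : α → X} (h : ∀ σ ∈ W, ∃ c : X, ∀ i, s (σ i) = c * s i) :
    W ≤ Yst s := by
  intro σ hσ i
  obtain ⟨τ, hτ, hτi, k, hk⟩ := exists_fix hW2 hW hα ⟨σ, hσ, rfl⟩
  obtain ⟨c, hc⟩ := h τ hτ
  have h1 : c = 1 := by
    have := hc k
    rw [hk] at this
    exact (mul_eq_right.1 this.symm)
  rw [← hτi, hc, h1, one_mul]

theorem odd_index_of_le {G : Type*} [Group G] {H K : Subgroup G} (hH : Odd H.index) (h : H ≤ K) : Odd K.index :=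
  hH.of_dvd_nat (index_dvd_of_le h)

/-- `W` contains a transposition -/
theorem exists_swap_mem {W : Subgroup (Perm α)} (hW2 : IsPGroup 2 W) (hW : Odd W.index) (hα : 2 ≤ Nat.card α) :
    ∃ i j : α, i ≠ j ∧ swap i j ∈ W := by
  have h2 : Fact (Nat.Prime 2) := ⟨Nat.prime_two⟩
  have : Nontrivial α := Finite.one_lt_card_iff_nontrivial.1 (by omega)
  obtain ⟨i, j, hij⟩ := exists_pair_ne α
  have hR : IsPGroup 2 (zpowers (swap i j)) := by
    refine IsPGroup.of_card (n := 1) ?_
    rw [Nat.card_zpowers, pow_one]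
    exact orderOf_eq_prime (by rw [pow_two, swap_mul_self]) (by
      intro h
      exact hij (swap_eq_one_iff.1 h))
  obtain ⟨g, -, hg⟩ := Cfsg.Agent.H55.Sd.exists_conj_le (H := (⊤ : Subgroup (Perm α))) (A := W) le_top hW2
    (by rwa [relIndex_top_right]) le_top hR
  refine ⟨g⁻¹ i, g⁻¹ j, fun h => hij (g⁻¹.injective h), ?_⟩
  have h1 := hg _ (mem_zpowers _)
  have h2 : g⁻¹ * swap i j * g = swap (g⁻¹ i) (g⁻¹ j) := by
    rw [swap_apply_apply, inv_inv]
  rwa [h2] at h1

end Orbit

/-- linear characters of the even part of `W` -/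
theorem sq_eq_one_of_hom {n : ℕ} {W : Subgroup (Perm (Fin n))} (hW2 : IsPGroup 2 W) (hW : Odd W.index)
    (g : ↥(W.subgroupOf (alternatingGroup (Fin n))) →* ℂˣ) (x : ↥(W.subgroupOf (alternatingGroup (Fin n)))) :
    g x ^ 2 = 1 := by
  have h2 : Fact (Nat.Prime 2) := ⟨Nat.prime_two⟩
  have h1 : IsPGroup 2 (W.subgroupOf (alternatingGroup (Fin n))) :=
    hW2.comap_of_injective _ (subtype_injective _)
  have h3 : Odd (W.subgroupOf (alternatingGroup (Fin n))).index :=
    hW.of_dvd_nat (Cfsg.Agent.H643.Sd.relIndex_dvd_index _ _)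
  let Q : Sylow 2 (alternatingGroup (Fin n)) := h1.toSylow (by
    rw [← even_iff_two_dvd, Nat.not_even_iff_odd]; exact h3)
  obtain ⟨P⟩ : Nonempty (Sylow 2 (Perm (Fin n))) := inferInstance
  have h4 := (Cfsg.Agent.S4623.result 2 n P Q).2 x
  have h5 : commutator (Q : Subgroup (alternatingGroup (Fin n))) ≤ MonoidHom.ker g :=
    Abelianization.commutator_subset_ker g
  have h6 : g (x ^ 2) = 1 := h5 h4
  rw [← map_pow]
  exact h6

end Cfsg.Agent.H755.Sd.PermU
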