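import Cfsg.Agent.H637.GLPart
import Cfsg.Agent.H139.Bruhat
import Cfsg.Agent.H643.Sd.Basic

/-!
# S4579, `PSL_n`: the monomial Sylow `2`-subgroup of `GL_n(q)`, `q ≡ 1 mod 4` (helper755)
-/

set_option autoImplicit false

namespace Cfsg.Agent.H755.Sd.Syl

open Subgroup Equiv Matrix
open Cfsg.Agent.H139.Bruhat
open scoped MatrixGroups

section Mon

variable {F : Type*} [Field F] {n : ℕ}

/-- diagonal matrices -/
def dgl : (Fin n → Fˣ) →* GL (Fin n) F where
  toFun d := ⟨Matrix.diagonal fun i => (d i : F), Matrix.diagonal fun i => ((d i)⁻¹ : Fˣ),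
    by simp [Matrix.diagonal_mul_diagonal], by simp [Matrix.diagonal_mul_diagonal]⟩
  map_one' := by
    apply Units.ext
    simp
  map_mul' d d' := by
    apply Units.ext
    simp [Matrix.diagonal_mul_diagonal]

theorem coe_dgl (d : Fin n → Fˣ) : ((dgl d : GL (Fin n) F) : Matrix (Fin n) (Fin n) F) =
    Matrix.diagonal fun i => (d i : F) := rfl

/-- monomial matrices -/
noncomputable def mon (d : Fin n → Fˣ) (σ : Perm (Fin n)) : GL (Fin n) F := dgl d * permGL F n σ

theorem permGL_apply (σ : Perm (Fin n)) (i j : Fin n) :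
    ((permGL F n σ : GL (Fin n) F) : Matrix (Fin n) (Fin n) F) i j = if σ⁻¹ i = j then 1 else 0 := by
  have h := permGL_mul_apply (F := F) σ 1 i j
  rw [Matrix.mul_one] at h
  rw [h, Matrix.one_apply]

theorem mon_apply (d : Fin n → Fˣ) (σ : Perm (Fin n)) (i j : Fin n) :
    ((mon d σ : GL (Fin n) F) : Matrix (Fin n) (Fin n) F) i j = if σ⁻¹ i = j then (d i : F) else 0 := by
  unfold mon
  rw [Units.val_mul, coe_dgl, Matrix.diagonal_mul, permGL_apply]
  split <;> simp

theorem permGL_mul_dgl (σ : Perm (Fin n)) (d : Fin n → Fˣ) :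
    permGL F n σ * dgl d = dgl (fun i => d (σ⁻¹ i)) * permGL F n σ := by
  apply Units.ext
  ext i j
  rw [Units.val_mul, permGL_mul_apply, coe_dgl, Units.val_mul, coe_dgl, Matrix.diagonal_mul, permGL_apply,
    Matrix.diagonal_apply]
  split <;> simp

theorem mon_mul (d d' : Fin n → Fˣ) (σ σ' : Perm (Fin n)) :
    mon (F := F) d σ * mon d' σ' = mon (fun i => d i * d' (σ⁻¹ i)) (σ * σ') := by
  unfold mon
  rw [map_mul, ← mul_assoc, ← mul_assoc, mul_assoc (dgl d), permGL_mul_dgl, ← mul_assoc, ← map_mul]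
  rfl

theorem mon_one : mon (F := F) (fun _ : Fin n => 1) 1 = 1 := by
  unfold mon
  rw [map_one, mul_one]
  exact map_one dgl

theorem mon_inv (d : Fin n → Fˣ) (σ : Perm (Fin n)) :
    (mon (F := F) d σ)⁻¹ = mon (fun i => (d (σ i))⁻¹) σ⁻¹ := by
  rw [inv_eq_iff_mul_eq_one, mon_mul, mul_inv_cancel]
  have : (fun i => d i * (d (σ (σ⁻¹ i)))⁻¹) = fun _ => (1 : Fˣ) := by
    funext i
    rw [show σ (σ⁻¹ i) = i from σ.apply_symm_apply i, mul_inv_cancel]
  rw [this, mon_one]

theorem mon_injective {d d' : Fin n → Fˣ} {σ σ' : Perm (Fin n)} (h : mon (F := F) d σ = mon d' σ') :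
    d = d' ∧ σ = σ' := by
  have h1 : ∀ i, (if σ⁻¹ i = σ⁻¹ i then (d i : F) else 0) = if σ'⁻¹ i = σ⁻¹ i then (d' i : F) else 0 := by
    intro i
    rw [← mon_apply, ← mon_apply, h]
  have h2 : ∀ i, σ'⁻¹ i = σ⁻¹ i := by
    intro i
    by_contra hne
    have := h1 i
    rw [if_pos rfl, if_neg hne] at this
    exact (d i).ne_zero this
  constructor
  · funext i
    have := h1 i
    rw [if_pos rfl, if_pos (h2 i)] at this
    exact Units.ext this
  · have : σ⁻¹ = σ'⁻¹ := Equiv.ext fun i => (h2 i).symm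
    exact inv_injective this

/-- the monomial group with entries in `K` and permutations in `W` -/
def monK (K : Subgroup Fˣ) (W : Subgroup (Perm (Fin n))) : Subgroup (GL (Fin n) F) where
  carrier := {g | ∃ d σ, (∀ i, d i ∈ K) ∧ σ ∈ W ∧ g = mon d σ}
  one_mem' := ⟨fun _ => 1, 1, fun _ => K.one_mem, W.one_mem, mon_one.symm⟩
  mul_mem' := by
    rintro _ _ ⟨d, σ, hd, hσ, rfl⟩ ⟨d', σ', hd', hσ', rfl⟩
    exact ⟨_, _, fun i => K.mul_mem (hd _) (hd' _), W.mul_mem hσ hσ', mon_mul _ _ _ _⟩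
  inv_mem' := by
    rintro _ ⟨d, σ, hd, hσ, rfl⟩
    exact ⟨_, _, fun i => K.inv_mem (hd _), W.inv_mem hσ, mon_inv _ _⟩

theorem mem_monK {K : Subgroup Fˣ} {W : Subgroup (Perm (Fin n))} {g : GL (Fin n) F} :
    g ∈ monK K W ↔ ∃ d σ, (∀ i, d i ∈ K) ∧ σ ∈ W ∧ g = mon d σ := Iff.rfl

theorem card_monK (K : Subgroup Fˣ) (W : Subgroup (Perm (Fin n))) :
    Nat.card (monK (F := F) K W) = Nat.card K ^ n * Nat.card W := by
  have h1 : Nat.card ((Fin n → K) × W) = Nat.card K ^ n * Nat.card W := by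
    rw [Nat.card_prod, Nat.card_fun, Nat.card_fin]
  rw [← h1]
  symm
  refine Nat.card_eq_of_bijective
    (fun x : (Fin n → K) × W => (⟨mon (fun i => (x.1 i : Fˣ)) x.2, _, _, fun i => (x.1 i).2, x.2.2, rfl⟩ :
      monK (F := F) K W)) ⟨?_, ?_⟩
  · rintro ⟨d, σ⟩ ⟨d', σ'⟩ h
    obtain ⟨h2, h3⟩ := mon_injective (congrArg Subtype.val h)
    refine Prod.ext ?_ (Subtype.ext h3)
    funext i
    exact Subtype.ext (congrFun h2 i)
  · rintro ⟨_, d, σ, hd, hσ, rfl⟩
    exact ⟨⟨fun i => ⟨d i, hd i⟩, ⟨σ, hσ⟩⟩, rfl⟩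

end Mon

section Card

variable {F : Type*} [Field F] [Fintype F] {n : ℕ}

open Cfsg.Agent.H637

theorem odd_card (hq : 4 ∣ Fintype.card F - 1) : Odd (Fintype.card F) := by
  have h1 : 1 < Fintype.card F := Fintype.one_lt_card
  obtain ⟨k, hk⟩ := hq
  exact ⟨2 * k, by omega⟩

theorem val_pow (hq : 4 ∣ Fintype.card F - 1) (j : ℕ) (hj : j ≠ 0) :
    padicValNat 2 (Fintype.card F ^ j - 1) = padicValNat 2 (Fintype.card F - 1) + padicValNat 2 j := by
  have h2 : Fact (Nat.Prime 2) := ⟨Nat.prime_two⟩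
  have h1 : 1 < Fintype.card F := Fintype.one_lt_card
  have hodd := odd_card hq
  rcases Nat.even_or_odd' j with ⟨m, rfl | rfl⟩
  · have hm : m ≠ 0 := by omega
    rw [val_pow_even _ hodd h1 m hm, padicValNat.mul two_ne_zero hm]
    have h3 : padicValNat 2 (Fintype.card F ^ 2 - 1) = padicValNat 2 (Fintype.card F - 1) + 1 := by
      have e : Fintype.card F ^ 2 - 1 = (Fintype.card F - 1) * (Fintype.card F + 1) := by
        have := Nat.sq_sub_sq (Fintype.card F) 1
        rw [one_pow] at this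
        rw [this, mul_comm]
      rw [e, padicValNat.mul (by omega) (by omega)]
      congr 1
      obtain ⟨k, hk⟩ := hq
      have e2 : Fintype.card F + 1 = 2 * (2 * k + 1) := by omega
      rw [e2, padicValNat.mul two_ne_zero (by omega), padicValNat.self (by norm_num),
        padicValNat.eq_zero_of_not_dvd (by omega)]
    rw [h3, padicValNat.self (by norm_num)]
    ring
  · rw [val_pow_odd _ hodd h1, padicValNat.eq_zero_of_not_dvd (n := 2 * m + 1) (by omega), add_zero]

theorem gv_eq (hq : 4 ∣ Fintype.card F - 1) (n : ℕ) :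
    gv F n = n * padicValNat 2 (Fintype.card F - 1) + padicValNat 2 n.factorial := by
  have h2 : Fact (Nat.Prime 2) := ⟨Nat.prime_two⟩
  induction n with
  | zero => simp [gv_zero]
  | succ n ih =>
    rw [gv_succ (odd_card hq), ih, val_pow hq _ (Nat.succ_ne_zero n), Nat.factorial_succ,
      padicValNat.mul (Nat.succ_ne_zero n) (Nat.factorial_ne_zero n)]
    ring

/-- **The monomial Sylow subgroup.** -/
theorem odd_index_monK (hq : 4 ∣ Fintype.card F - 1) (K : Sylow 2 Fˣ) (W : Sylow 2 (Perm (Fin n))) :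
    IsPGroup 2 (monK (K : Subgroup Fˣ) (W : Subgroup (Perm (Fin n)))) ∧
      Odd (monK (K : Subgroup Fˣ) (W : Subgroup (Perm (Fin n)))).index := by
  have h2 : Fact (Nat.Prime 2) := ⟨Nat.prime_two⟩
  have hK : Nat.card K = 2 ^ padicValNat 2 (Fintype.card F - 1) := by
    rw [K.card_eq_multiplicity, Nat.card_units, Nat.card_eq_fintype_card, Nat.factorization_def _ Nat.prime_two]
  have hW : Nat.card W = 2 ^ padicValNat 2 n.factorial := by
    rw [W.card_eq_multiplicity, Nat.card_perm, Nat.card_fin, Nat.factorization_def _ Nat.prime_two]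
  have hc : Nat.card (monK (K : Subgroup Fˣ) (W : Subgroup (Perm (Fin n)))) =
      2 ^ (n * padicValNat 2 (Fintype.card F - 1) + padicValNat 2 n.factorial) := by
    have := card_monK (F := F) (K : Subgroup Fˣ) (W : Subgroup (Perm (Fin n)))
    rw [this]
    change Nat.card K ^ n * Nat.card W = _
    rw [hK, hW, ← pow_mul, ← pow_add, mul_comm]
  refine ⟨IsPGroup.of_card hc, ?_⟩
  have h3 := (monK (K : Subgroup Fˣ) (W : Subgroup (Perm (Fin n)))).card_mul_index
  have h4 : (monK (K : Subgroup Fˣ) (W : Subgroup (Perm (Fin n)))).index ≠ 0 := index_ne_zero_of_finite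
  have h5 := congrArg (padicValNat 2) h3
  rw [padicValNat.mul (by rw [hc]; positivity) h4, hc, padicValNat.prime_pow] at h5
  have h6 : padicValNat 2 (Nat.card (GL (Fin n) F)) = gv F n := rfl
  rw [h6, gv_eq hq] at h5
  have h7 : padicValNat 2 (monK (K : Subgroup Fˣ) (W : Subgroup (Perm (Fin n)))).index = 0 := by omega
  rw [← Nat.not_even_iff_odd, even_iff_two_dvd]
  intro h8
  have := one_le_padicValNat_of_dvd h4 h8
  omega

end Card

end Cfsg.Agent.H755.Sd.Syl
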