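import Cfsg.Agent.H755.Sd.Par
import Cfsg.Agent.H755.Sd.PermU

/-!
# S4579, `PSL_n`: linear characters of the monomial Sylow `2`-subgroup of `SL_n(q)` (helper755)

`TD F n` : the data (Sylow subgroups `K` of `Fˣ` and `W` of `S_n`, an index `i0`, an exponent `e` projecting `Fˣ` onto `K`);
`D.QH` : the monomial Sylow `2`-subgroup of `SL_n`; `fh : D.QH →* ℂˣ`; `D.sf fh i : Fˣ →* ℂˣ` its coordinates on the
diagonal matrices.
-/

set_option autoImplicit false

namespace Cfsg.Agent.H755.Sd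

open Subgroup Equiv Matrix
open Cfsg.Agent.H139.Bruhat Cfsg.Agent.H755.Sd.Syl Cfsg.Agent.H755.Sd.PermU
open scoped MatrixGroups

theorem mem_sylow_comm {X : Type*} [CommGroup X] [Finite X] (K : Sylow 2 X) {a : X} {k : ℕ} (h : a ^ 2 ^ k = 1) :
    a ∈ (K : Subgroup X) := by
  have h2 : Fact (Nat.Prime 2) := ⟨Nat.prime_two⟩
  have h1 : IsPGroup 2 (zpowers a) := by
    intro x
    obtain ⟨m, hm⟩ := mem_zpowers_iff.1 x.2
    refine ⟨k, Subtype.ext ?_⟩
    show (x : X) ^ 2 ^ k = 1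
    rw [← hm, ← zpow_natCast, zpow_comm, zpow_natCast, h, _root_.one_zpow]
  have h3 : IsPGroup 2 ((K : Subgroup X) ⊔ zpowers a : Subgroup X) := K.2.to_sup_of_normal_left h1
  have h4 := K.is_maximal' h3 le_sup_left
  rw [← h4]
  exact le_sup_right (a := (K : Subgroup X)) (mem_zpowers a)

theorem exists_exp {X : Type*} [CommGroup X] [Finite X] (K : Sylow 2 X) :
    ∃ e : ℕ, (∀ a : X, a ^ e ∈ (K : Subgroup X)) ∧ ∀ a ∈ (K : Subgroup X), a ^ e = a := by
  have h2 : Fact (Nat.Prime 2) := ⟨Nat.prime_two⟩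
  have hcop : Nat.Coprime (K : Subgroup X).index (Nat.card K) := by
    obtain ⟨m, hm⟩ := IsPGroup.iff_card.1 K.2
    rw [hm]
    refine Nat.Coprime.pow_right m (Nat.coprime_two_right.2 ?_)
    rw [← Nat.not_even_iff_odd, even_iff_two_dvd]
    exact K.not_dvd_index
  obtain ⟨e, he1, he2⟩ := Nat.chineseRemainder hcop 0 1
  refine ⟨e, fun a => ?_, fun a ha => ?_⟩
  · obtain ⟨m, hm⟩ := (Nat.modEq_zero_iff_dvd).1 he1
    rw [hm, pow_mul]
    exact pow_mem (Subgroup.pow_index_mem _ a) m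
  · have h3 : orderOf a ∣ Nat.card K := by
      have := orderOf_dvd_natCard (⟨a, ha⟩ : (K : Subgroup X))
      rwa [← Subgroup.orderOf_coe] at this
    conv_rhs => rw [← pow_one a]
    rw [pow_eq_pow_iff_modEq]
    exact he2.of_dvd h3

section Cor

variable {F : Type*} [Field F] {n : ℕ}

/-- correction of the product at `i0` -/
def cor (i0 : Fin n) : (Fin n → Fˣ) →* (Fin n → Fˣ) where
  toFun d := d * Pi.mulSingle i0 (∏ i, d i)⁻¹
  map_one' := by simp
  map_mul' d d' := by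
    simp only [Pi.mul_apply, Finset.prod_mul_distrib]
    rw [mul_inv, Pi.mulSingle_mul]
    exact mul_mul_mul_comm _ _ _ _

theorem prod_cor (i0 : Fin n) (d : Fin n → Fˣ) : ∏ i, cor i0 d i = 1 := by
  show ∏ i, (d * Pi.mulSingle i0 (∏ i, d i)⁻¹ : Fin n → Fˣ) i = 1
  simp only [Pi.mul_apply, Finset.prod_mul_distrib]
  rw [Finset.prod_pi_mulSingle']
  simp

theorem cor_of_prod {i0 : Fin n} {d : Fin n → Fˣ} (h : ∏ i, d i = 1) : cor i0 d = d := by
  show d * Pi.mulSingle i0 (∏ i, d i)⁻¹ = d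
  rw [h, inv_one, Pi.mulSingle_one, mul_one]

/-- diagonal matrices in `SL` -/
def dgS (i0 : Fin n) : (Fin n → Fˣ) →* Matrix.SpecialLinearGroup (Fin n) F where
  toFun d := ⟨Matrix.diagonal fun i => (cor i0 d i : F), by
    rw [Matrix.det_diagonal, ← Units.coe_prod, prod_cor, Units.val_one]⟩
  map_one' := by
    apply Subtype.ext
    show Matrix.diagonal (fun i => ((cor i0 (1 : Fin n → Fˣ) i : Fˣ) : F)) = 1
    rw [map_one]
    simp
  map_mul' d d' := by
    apply Subtype.ext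
    show Matrix.diagonal (fun i => ((cor i0 (d * d') i : Fˣ) : F)) =
      Matrix.diagonal (fun i => ((cor i0 d i : Fˣ) : F)) * Matrix.diagonal (fun i => ((cor i0 d' i : Fˣ) : F))
    rw [map_mul, Matrix.diagonal_mul_diagonal]
    simp

theorem toGL_dgS (i0 : Fin n) (d : Fin n → Fˣ) :
    Matrix.SpecialLinearGroup.toGL (dgS i0 d) = dgl (cor i0 d) := Units.ext rfl

theorem toGL_injective {x y : Matrix.SpecialLinearGroup (Fin n) F}
    (h : Matrix.SpecialLinearGroup.toGL x = Matrix.SpecialLinearGroup.toGL y) : x = y :=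
  Subtype.ext (congrArg Units.val h)

/-- the inverse of `toGL` -/
def ofGL (g : GL (Fin n) F) (h : (g : Matrix (Fin n) (Fin n) F).det = 1) :
    Matrix.SpecialLinearGroup (Fin n) F := ⟨g, h⟩

theorem toGL_ofGL (g : GL (Fin n) F) (h : (g : Matrix (Fin n) (Fin n) F).det = 1) :
    Matrix.SpecialLinearGroup.toGL (ofGL g h) = g := Units.ext rfl

theorem det_mon (d : Fin n → Fˣ) (σ : Perm (Fin n)) :
    ((mon d σ : GL (Fin n) F) : Matrix (Fin n) (Fin n) F).det = (∏ i, (d i : F)) * ((Perm.sign σ : ℤ) : F) := by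
  unfold mon
  rw [Units.val_mul, Matrix.det_mul, coe_dgl, Matrix.det_diagonal, coe_permGL, Matrix.det_permutation,
    Perm.sign_inv]

end Cor

/-- the data -/
structure TD (F : Type*) [Field F] (n : ℕ) where
  K : Sylow 2 Fˣ
  W : Sylow 2 (Perm (Fin n))
  i0 : Fin n
  e : ℕ
  he : ∀ a : Fˣ, a ^ e ∈ (K : Subgroup Fˣ)
  he1 : ∀ a ∈ (K : Subgroup Fˣ), a ^ e = a

theorem TD.exists_data (F : Type*) [Field F] [Finite F] {n : ℕ} (i0 : Fin n) : Nonempty (TD F n) := by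
  obtain ⟨K⟩ : Nonempty (Sylow 2 Fˣ) := inferInstance
  obtain ⟨W⟩ : Nonempty (Sylow 2 (Perm (Fin n))) := inferInstance
  obtain ⟨e, he, he1⟩ := exists_exp K
  exact ⟨⟨K, W, i0, e, he, he1⟩⟩

namespace TD

variable {F : Type*} [Field F] {n : ℕ} (D : TD F n)

/-- the monomial Sylow subgroup -/
def QH : Subgroup (Matrix.SpecialLinearGroup (Fin n) F) :=
  (monK (D.K : Subgroup Fˣ) (D.W : Subgroup (Perm (Fin n)))).comap Matrix.SpecialLinearGroup.toGL

variable {D}

theorem mem_QH {x : Matrix.SpecialLinearGroup (Fin n) F} :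
    x ∈ D.QH ↔ ∃ d σ, (∀ i, d i ∈ (D.K : Subgroup Fˣ)) ∧ σ ∈ (D.W : Subgroup (Perm (Fin n))) ∧
      Matrix.SpecialLinearGroup.toGL x = mon d σ := Iff.rfl

theorem mon_one_right (d : Fin n → Fˣ) : mon (F := F) d 1 = dgl d := by
  unfold mon
  rw [map_one, mul_one]

theorem dgS_mem {d : Fin n → Fˣ} (h : ∀ i, d i ∈ (D.K : Subgroup Fˣ)) : dgS D.i0 d ∈ D.QH := by
  rw [mem_QH]
  refine ⟨cor D.i0 d, 1, ?_, one_mem _, ?_⟩
  · intro i
    show d i * (Pi.mulSingle D.i0 (∏ i, d i)⁻¹ : Fin n → Fˣ) i ∈ (D.K : Subgroup Fˣ)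
    refine mul_mem (h i) ?_
    by_cases hi : i = D.i0
    · subst hi
      rw [Pi.mulSingle_eq_same]
      exact inv_mem (prod_mem fun j _ => h j)
    · rw [Pi.mulSingle_eq_of_ne hi]
      exact one_mem _
  · rw [toGL_dgS, mon_one_right]

variable (fh : ↥D.QH →* ℂˣ)

/-- the composition with the projection of the diagonal matrices -/
noncomputable def Phi : (Fin n → Fˣ) →* ℂˣ :=
  fh.comp (((dgS D.i0).comp (powMonoidHom D.e)).codRestrict D.QH fun d => dgS_mem fun i => D.he (d i))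

/-- the coordinates -/
noncomputable def sf (i : Fin n) : Fˣ →* ℂˣ := (Phi fh).comp (MonoidHom.mulSingle (fun _ : Fin n => Fˣ) i)

theorem Phi_def (d : Fin n → Fˣ) : Phi fh d = fh ⟨dgS D.i0 (d ^ D.e), dgS_mem fun i => D.he (d i)⟩ := rfl

theorem sf_apply (i : Fin n) (a : Fˣ) : sf fh i a = Phi fh (Pi.mulSingle i a) := rfl

theorem Phi_eq (d : Fin n → Fˣ) : Phi fh d = ∏ i, sf fh i (d i) := by
  conv_lhs => rw [← Finset.univ_prod_mulSingle d]
  rw [map_prod]
  rfl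

theorem sf_i0 : sf fh D.i0 = 1 := by
  ext a
  rw [sf_apply]
  have h1 : Phi fh (Pi.mulSingle D.i0 a) = 1 := by
    rw [Phi_def]
    have h2 : dgS D.i0 ((Pi.mulSingle D.i0 a : Fin n → Fˣ) ^ D.e) = 1 := by
      apply toGL_injective
      rw [toGL_dgS, map_one]
      have h3 : cor D.i0 ((Pi.mulSingle D.i0 a : Fin n → Fˣ) ^ D.e) = 1 := by
        rw [map_pow]
        have h4 : cor D.i0 (Pi.mulSingle D.i0 a : Fin n → Fˣ) = 1 := by
          show (Pi.mulSingle D.i0 a : Fin n → Fˣ) *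
            Pi.mulSingle D.i0 (∏ i, (Pi.mulSingle D.i0 a : Fin n → Fˣ) i)⁻¹ = 1
          rw [Finset.prod_pi_mulSingle', if_pos (Finset.mem_univ _), ← Pi.mulSingle_mul, mul_inv_cancel,
            Pi.mulSingle_one]
        rw [h4, one_pow]
      rw [h3, map_one]
    have h5 : (⟨dgS D.i0 ((Pi.mulSingle D.i0 a : Fin n → Fˣ) ^ D.e), dgS_mem fun i => D.he _⟩ : D.QH) = 1 :=
      Subtype.ext h2
    rw [h5, map_one]
  rw [h1]
  rfl

/-- diagonal elements of `QH` -/
theorem fh_dgl {x : D.QH} {d : Fin n → Fˣ} (hd : ∀ i, d i ∈ (D.K : Subgroup Fˣ))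
    (h : Matrix.SpecialLinearGroup.toGL (x : Matrix.SpecialLinearGroup (Fin n) F) = dgl d) :
    fh x = ∏ i, sf fh i (d i) := by
  rw [← Phi_eq, Phi_def]
  congr 1
  apply Subtype.ext
  apply toGL_injective
  rw [h]
  have hprod : ∏ i, d i = 1 := by
    apply Units.ext
    have h1 := congrArg (fun g : GL (Fin n) F => (g : Matrix (Fin n) (Fin n) F).det) h
    simp only [coe_dgl, Matrix.det_diagonal] at h1
    rw [Units.coe_prod, ← h1, Units.val_one]
    exact (x : Matrix.SpecialLinearGroup (Fin n) F).2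
  have hde : d ^ D.e = d := funext fun i => D.he1 _ (hd i)
  show dgl d = Matrix.SpecialLinearGroup.toGL (dgS D.i0 (d ^ D.e))
  rw [toGL_dgS, hde, cor_of_prod hprod]

theorem Phi_pow (d : Fin n → Fˣ) : Phi fh (d ^ D.e) = Phi fh d := by
  rw [Phi_def, Phi_def]
  have : (d ^ D.e) ^ D.e = d ^ D.e := funext fun i => D.he1 _ (D.he (d i))
  congr 1
  apply Subtype.ext
  show dgS D.i0 ((d ^ D.e) ^ D.e) = dgS D.i0 (d ^ D.e)
  rw [this]

theorem exists_pow [Finite F] : ∃ k : ℕ, ∀ x, fh x ^ 2 ^ k = 1 := by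
  have h2 : Fact (Nat.Prime 2) := ⟨Nat.prime_two⟩
  have h1 : IsPGroup 2 D.QH := by
    have h3 : IsPGroup 2 (monK (D.K : Subgroup Fˣ) (D.W : Subgroup (Perm (Fin n)))) := by
      obtain ⟨a, ha⟩ := IsPGroup.iff_card.1 D.K.2
      obtain ⟨b, hb⟩ := IsPGroup.iff_card.1 D.W.2
      refine IsPGroup.of_card (n := a * n + b) ?_
      rw [card_monK, ha, hb, ← pow_mul, ← pow_add]
    exact h3.comap_of_injective _ fun x y h => toGL_injective h
  obtain ⟨k, hk⟩ := IsPGroup.iff_card.1 h1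
  refine ⟨k, fun x => ?_⟩
  rw [← map_pow, ← hk, pow_card_eq_one', map_one]

theorem exists_pow_sf [Finite F] : ∃ k : ℕ, ∀ i, sf fh i ^ 2 ^ k = 1 := by
  obtain ⟨k, hk⟩ := exists_pow fh
  refine ⟨k, fun i => ?_⟩
  apply MonoidHom.ext
  intro a
  rw [MonoidHom.pow_apply]
  exact hk _

/-- the comparison of products -/
theorem semi_of_prod (i0 : Fin n) {r r' : Fin n → (Fˣ →* ℂˣ)}
    (h : ∀ t : Fin n → Fˣ, ∏ i, t i = 1 → ∏ i, r i (t i) = ∏ i, r' i (t i)) (i : Fin n) :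
    r i = r i0 * (r' i0)⁻¹ * r' i := by
  apply MonoidHom.ext
  intro a
  have key : ∀ r : Fin n → (Fˣ →* ℂˣ), ∏ j, r j ((Pi.mulSingle i a * Pi.mulSingle i0 a⁻¹ : Fin n → Fˣ) j) =
      r i a * (r i0 a)⁻¹ := by
    intro r
    simp only [Pi.mul_apply, map_mul, Finset.prod_mul_distrib]
    congr 1
    · rw [Finset.prod_eq_single i]
      · rw [Pi.mulSingle_eq_same]
      · intro j _ hj
        rw [Pi.mulSingle_eq_of_ne hj, map_one]
      · intro hj
        exact absurd (Finset.mem_univ _) hj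
    · rw [Finset.prod_eq_single i0]
      · rw [Pi.mulSingle_eq_same, map_inv]
      · intro j _ hj
        rw [Pi.mulSingle_eq_of_ne hj, map_one]
      · intro hj
        exact absurd (Finset.mem_univ _) hj
  have h1 := h (Pi.mulSingle i a * Pi.mulSingle i0 a⁻¹) (by
    simp only [Pi.mul_apply, Finset.prod_mul_distrib]
    rw [Finset.prod_pi_mulSingle', Finset.prod_pi_mulSingle', if_pos (Finset.mem_univ _),
      if_pos (Finset.mem_univ _), mul_inv_cancel])
  rw [key, key] at h1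
  rw [MonoidHom.mul_apply, MonoidHom.mul_apply, MonoidHom.inv_apply, mul_inv_eq_iff_eq_mul.1 h1,
    mul_comm (r' i a), mul_assoc, mul_comm (r' i a) (r i0 a), ← mul_assoc, mul_comm (r' i0 a)⁻¹ (r i0 a)]

end TD

end Cfsg.Agent.H755.Sd
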