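import Cfsg.Agent.H755.Sd.Torus

/-!
# S4579, `PSL_n`: the coordinates are invariant under `W`; real on the torus implies real (helper755)
-/

set_option autoImplicit false

namespace Cfsg.Agent.H755.Sd

open Subgroup Equiv Matrix
open Cfsg.Agent.H139.Bruhat Cfsg.Agent.H755.Sd.Syl Cfsg.Agent.H755.Sd.PermU
open scoped MatrixGroups

namespace TD

variable {F : Type*} [Field F] {n : ℕ} {D : TD F n}

theorem mon_mul_dgl (d : Fin n → Fˣ) (σ : Perm (Fin n)) (t : Fin n → Fˣ) :
    mon (F := F) d σ * dgl t = dgl (fun i => t (σ⁻¹ i)) * mon d σ := by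
  unfold mon
  rw [mul_assoc, permGL_mul_dgl, ← mul_assoc, ← mul_assoc, ← map_mul, ← map_mul, mul_comm d]

theorem mon_conj_dgl (d : Fin n → Fˣ) (σ : Perm (Fin n)) (t : Fin n → Fˣ) :
    mon (F := F) d σ * dgl t * (mon d σ)⁻¹ = dgl (fun i => t (σ⁻¹ i)) := by
  rw [mon_mul_dgl, mul_inv_cancel_right]

theorem tg_mul (x y : D.QH) : Matrix.SpecialLinearGroup.toGL ((x * y : D.QH) : Matrix.SpecialLinearGroup (Fin n) F) =
    Matrix.SpecialLinearGroup.toGL (x : Matrix.SpecialLinearGroup (Fin n) F) *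
      Matrix.SpecialLinearGroup.toGL (y : Matrix.SpecialLinearGroup (Fin n) F) := map_mul _ _ _

theorem tg_inv (x : D.QH) : Matrix.SpecialLinearGroup.toGL ((x⁻¹ : D.QH) : Matrix.SpecialLinearGroup (Fin n) F) =
    (Matrix.SpecialLinearGroup.toGL (x : Matrix.SpecialLinearGroup (Fin n) F))⁻¹ := map_inv _ _

/-- the sign as a unit -/
def sg (F : Type*) [Field F] (σ : Perm (Fin n)) : Fˣ := Units.map (Int.castRingHom F).toMonoidHom (Perm.sign σ)

theorem coe_sg (σ : Perm (Fin n)) : (sg F σ : F) = ((Perm.sign σ : ℤ) : F) := rfl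

theorem sg_sq (σ : Perm (Fin n)) : sg F σ ^ 2 = 1 := by
  unfold sg
  rw [← map_pow, Int.units_sq, map_one]

variable [Finite F]

theorem sg_mem (σ : Perm (Fin n)) : sg F σ ∈ (D.K : Subgroup Fˣ) :=
  mem_sylow_comm D.K (k := 1) (by rw [pow_one, sg_sq])

/-- a monomial element of `QH` with a given permutation -/
theorem exists_mon {σ : Perm (Fin n)} (hσ : σ ∈ (D.W : Subgroup (Perm (Fin n)))) (i0 : Fin n) :
    ∃ x : D.QH, Matrix.SpecialLinearGroup.toGL (x : Matrix.SpecialLinearGroup (Fin n) F) =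
      mon (Pi.mulSingle i0 (sg F σ)) σ := by
  have hdet : ((mon (Pi.mulSingle i0 (sg F σ)) σ : GL (Fin n) F) : Matrix (Fin n) (Fin n) F).det = 1 := by
    rw [det_mon, ← Units.coe_prod, Finset.prod_pi_mulSingle', if_pos (Finset.mem_univ _), ← coe_sg,
      ← Units.val_mul, ← pow_two, sg_sq, Units.val_one]
  refine ⟨⟨ofGL _ hdet, mem_QH.2 ⟨_, σ, ?_, hσ, toGL_ofGL _ _⟩⟩, toGL_ofGL _ _⟩
  intro i
  by_cases hi : i = i0
  · subst hi
    rw [Pi.mulSingle_eq_same]
    exact sg_mem σ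
  · rw [Pi.mulSingle_eq_of_ne hi]
    exact one_mem _

variable (fh : ↥D.QH →* ℂˣ)

theorem Phi_perm {σ : Perm (Fin n)} (hσ : σ ∈ (D.W : Subgroup (Perm (Fin n)))) {t : Fin n → Fˣ}
    (ht : ∏ i, t i = 1) : Phi fh (fun i => t (σ⁻¹ i)) = Phi fh t := by
  obtain ⟨x, hx⟩ := exists_mon (D := D) hσ D.i0
  let y : D.QH := ⟨dgS D.i0 (t ^ D.e), dgS_mem fun i => D.he (t i)⟩
  have hy : Matrix.SpecialLinearGroup.toGL (y : Matrix.SpecialLinearGroup (Fin n) F) = dgl (t ^ D.e) := by
    show Matrix.SpecialLinearGroup.toGL (dgS D.i0 (t ^ D.e)) = _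
    rw [toGL_dgS, map_pow, cor_of_prod ht]
  have h1 : fh (x * y * x⁻¹) = Phi fh t := by
    rw [map_mul, map_mul, map_inv, mul_right_comm, mul_inv_cancel, one_mul]
    rfl
  have h2 : Matrix.SpecialLinearGroup.toGL ((x * y * x⁻¹ : D.QH) : Matrix.SpecialLinearGroup (Fin n) F) =
      dgl (fun i => (t ^ D.e) (σ⁻¹ i)) := by
    rw [← mon_conj_dgl (Pi.mulSingle D.i0 (sg F σ)), ← hx, ← hy, tg_mul, tg_mul, tg_inv]
  have h3 := fh_dgl fh (fun i => D.he (t (σ⁻¹ i))) h2
  rw [h1] at h3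
  rw [h3, ← Phi_pow, Phi_eq]
  rfl

theorem semi_W {σ : Perm (Fin n)} (hσ : σ ∈ (D.W : Subgroup (Perm (Fin n)))) :
    ∃ c, ∀ i, sf fh (σ i) = c * sf fh i := by
  refine ⟨_, semi_of_prod D.i0 (r := fun i => sf fh (σ i)) (r' := sf fh) ?_⟩
  intro t ht
  rw [← Phi_eq, ← Phi_perm fh hσ ht, Phi_eq, ← Equiv.prod_comp σ (fun j => sf fh j (t (σ⁻¹ j)))]
  refine Finset.prod_congr rfl fun i _ => ?_
  rw [show σ⁻¹ (σ i) = i from σ.symm_apply_apply i]

omit [Finite F] in
theorem odd_W : Odd (D.W : Subgroup (Perm (Fin n))).index := by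
  have h2 : Fact (Nat.Prime 2) := ⟨Nat.prime_two⟩
  rw [← Nat.not_even_iff_odd, even_iff_two_dvd]
  exact D.W.not_dvd_index

theorem W_le_Yst (hn : ∀ k, n ≠ 2 ^ k) : (D.W : Subgroup (Perm (Fin n))) ≤ Yst (sf fh) :=
  semi_const D.W.2 odd_W (by simpa using hn) fun _ hσ => semi_W fh hσ

theorem odd_Yst (hn : ∀ k, n ≠ 2 ^ k) : Odd (Yst (sf fh)).index := odd_index_of_le odd_W (W_le_Yst fh hn)

/-! ### Real on the torus -/

/-- the even permutations in `QH` -/
noncomputable def rho (D : TD F n) :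
    ↥((D.W : Subgroup (Perm (Fin n))).subgroupOf (alternatingGroup (Fin n))) →* D.QH where
  toFun τ := ⟨ofGL (permGL F n τ.1.1) (by
      rw [coe_permGL, Matrix.det_permutation, Perm.sign_inv, Perm.mem_alternatingGroup.1 τ.1.2]
      simp), mem_QH.2 ⟨fun _ => 1, τ.1.1, fun _ => one_mem _, τ.2, by
        rw [toGL_ofGL]
        unfold mon
        have : dgl (fun _ : Fin n => (1 : Fˣ)) = (1 : GL (Fin n) F) := map_one dgl
        rw [this, one_mul]⟩⟩
  map_one' := by
    apply Subtype.ext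
    apply toGL_injective
    show Matrix.SpecialLinearGroup.toGL (ofGL _ _) = Matrix.SpecialLinearGroup.toGL 1
    rw [toGL_ofGL, map_one]
    exact map_one (permGL F n)
  map_mul' x y := by
    apply Subtype.ext
    apply toGL_injective
    show Matrix.SpecialLinearGroup.toGL (ofGL _ _) = Matrix.SpecialLinearGroup.toGL (ofGL _ _ * ofGL _ _)
    rw [map_mul, toGL_ofGL, toGL_ofGL, toGL_ofGL]
    exact map_mul (permGL F n) _ _

omit [Finite F] in
theorem toGL_rho (τ : ↥((D.W : Subgroup (Perm (Fin n))).subgroupOf (alternatingGroup (Fin n)))) :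
    Matrix.SpecialLinearGroup.toGL (rho D τ : Matrix.SpecialLinearGroup (Fin n) F) = permGL F n τ.1.1 :=
  toGL_ofGL _ _

omit [Finite F] in
theorem sq_of_even (h : ∀ i, sf fh i ^ 2 = 1) {x : D.QH} {d : Fin n → Fˣ} {σ : Perm (Fin n)}
    (hd : ∀ i, d i ∈ (D.K : Subgroup Fˣ)) (hσ : σ ∈ (D.W : Subgroup (Perm (Fin n)))) (hs : Perm.sign σ = 1)
    (hx : Matrix.SpecialLinearGroup.toGL (x : Matrix.SpecialLinearGroup (Fin n) F) = mon d σ) : fh x ^ 2 = 1 := by
  let τ : ↥((D.W : Subgroup (Perm (Fin n))).subgroupOf (alternatingGroup (Fin n))) :=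
    ⟨⟨σ, Perm.mem_alternatingGroup.2 hs⟩, hσ⟩
  have h1 := sq_eq_one_of_hom D.W.2 odd_W (fh.comp (rho D)) τ
  have h2 : Matrix.SpecialLinearGroup.toGL ((x * (rho D τ)⁻¹ : D.QH) : Matrix.SpecialLinearGroup (Fin n) F) =
      dgl d := by
    rw [tg_mul, tg_inv, hx, toGL_rho]
    unfold mon
    exact mul_inv_cancel_right _ _
  have h3 := fh_dgl fh hd h2
  have h4 : x = x * (rho D τ)⁻¹ * rho D τ := (inv_mul_cancel_right _ _).symm
  rw [h4, map_mul, mul_pow, h3, ← Finset.prod_pow]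
  have h5 : ∀ i, (sf fh i (d i)) ^ 2 = 1 := by
    intro i
    rw [← MonoidHom.pow_apply, h i]
    rfl
  rw [Finset.prod_congr rfl fun i _ => h5 i, Finset.prod_const_one, one_mul]
  exact h1

/-- **Real on the torus implies real.** -/
theorem sq_of_torus (hneg : IsSquare (-1 : F)) (hn : 2 ≤ n) (h : ∀ i, sf fh i ^ 2 = 1) (x : D.QH) :
    fh x ^ 2 = 1 := by
  obtain ⟨d, σ, hd, hσ, hx⟩ := mem_QH.1 x.2
  rcases Int.units_eq_one_or (Perm.sign σ) with hs | hs
  · exact sq_of_even fh h hd hσ hs hx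
  · obtain ⟨i, j, hij, hw⟩ := exists_swap_mem D.W.2 odd_W (by simpa using hn)
    obtain ⟨y, hy⟩ := exists_mon (D := D) hw i
    have hsw : Perm.sign (swap i j) = -1 := Perm.sign_swap hij
    -- `y ^ 2`
    have hy2 : fh y ^ 2 = 1 := by
      have h1 : Matrix.SpecialLinearGroup.toGL ((y * y : D.QH) : Matrix.SpecialLinearGroup (Fin n) F) =
          dgl (fun k => (Pi.mulSingle i (sg F (swap i j)) : Fin n → Fˣ) k *
            (Pi.mulSingle i (sg F (swap i j)) : Fin n → Fˣ) ((swap i j)⁻¹ k)) := by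
        rw [tg_mul, hy, mon_mul, Equiv.swap_mul_self, mon_one_right]
      have hm : ∀ k, (Pi.mulSingle i (sg F (swap i j)) : Fin n → Fˣ) k ∈ (D.K : Subgroup Fˣ) := by
        intro k
        by_cases hk : k = i
        · subst hk
          rw [Pi.mulSingle_eq_same]
          exact sg_mem _
        · rw [Pi.mulSingle_eq_of_ne hk]
          exact one_mem _
      have h2 := fh_dgl fh (fun k => mul_mem (hm k) (hm _)) h1
      rw [pow_two, ← map_mul, h2]
      refine Finset.prod_eq_one fun k _ => ?_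
      -- the argument is a square
      obtain ⟨ι, hι⟩ : ∃ ι : Fˣ, ι ^ 2 = sg F (swap i j) := by
        obtain ⟨ι, hι⟩ := hneg
        have h0 : ι ≠ 0 := by
          rintro rfl
          simp at hι
        refine ⟨Units.mk0 ι h0, Units.ext ?_⟩
        rw [Units.val_pow_eq_pow_val, Units.val_mk0, coe_sg, hsw, pow_two, ← hι]
        simp
      have h3 : ∀ m, sf fh k ((Pi.mulSingle i (sg F (swap i j)) : Fin n → Fˣ) m) = 1 := by
        intro m
        have h4 : sf fh k (sg F (swap i j)) = 1 := by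
          rw [← hι, map_pow, ← MonoidHom.pow_apply, h k]
          rfl
        by_cases hk : m = i
        · subst hk
          rw [Pi.mulSingle_eq_same]
          exact h4
        · rw [Pi.mulSingle_eq_of_ne hk, map_one]
      rw [map_mul, h3, h3, one_mul]
    have h5 : fh (x * y) ^ 2 = 1 := by
      refine sq_of_even fh h (x := x * y) (d := fun k => d k * (Pi.mulSingle i (sg F (swap i j)) : Fin n → Fˣ) (σ⁻¹ k))
        (σ := σ * swap i j) ?_ (mul_mem hσ hw) ?_ ?_
      · intro k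
        refine mul_mem (hd k) ?_
        by_cases hk : σ⁻¹ k = i
        · rw [hk, Pi.mulSingle_eq_same]
          exact sg_mem _
        · rw [Pi.mulSingle_eq_of_ne hk]
          exact one_mem _
      · rw [Perm.sign_mul, hs, hsw]
        rfl
      · rw [tg_mul, hx, hy, mon_mul]
    rw [map_mul, mul_pow, hy2, mul_one] at h5
    exact h5

end TD

end Cfsg.Agent.H755.Sd
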