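import Cfsg.Agent.H755.Sd.Lin

/-!
# S4579, `PSL_n`: the monomial Sylow subgroup is generated by diagonal matrices and root elements (helper755)
-/

set_option autoImplicit false

namespace Cfsg.Agent.H755.Sd

open Subgroup Equiv Matrix
open Cfsg.Agent.H139.Bruhat Cfsg.Agent.H755.Sd.Syl Cfsg.Agent.H755.Sd.PermU Cfsg.Agent.H755.Sd.Par
open scoped MatrixGroups

section

variable {F : Type*} [Field F] {n : ℕ}

/-- root elements -/
abbrev tv {i j : Fin n} (hij : i ≠ j) (c : F) : Matrix.SpecialLinearGroup (Fin n) F :=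
  Matrix.SpecialLinearGroup.transvection hij c

theorem toGL_weyl {i j : Fin n} (hij : i ≠ j) :
    Matrix.SpecialLinearGroup.toGL (tv hij (1 : F) * (tv hij.symm (-1) * tv hij 1)) =
      mon (Pi.mulSingle j (-1)) (swap i j) := by
  apply Units.ext
  ext p q
  rw [mon_apply, swap_inv]
  change (Matrix.transvection i j (1 : F) * (Matrix.transvection j i (-1 : F) * Matrix.transvection i j (1 : F)) :
    Matrix (Fin n) (Fin n) F) p q = _
  have hN : ∀ q, (Matrix.transvection i j (1 : F)) i q = (1 : Matrix (Fin n) (Fin n) F) i q +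
      (1 : Matrix (Fin n) (Fin n) F) j q := by
    intro q
    have := Matrix.transvection_mul_apply_same i j q (1 : F) (1 : Matrix (Fin n) (Fin n) F)
    rwa [Matrix.mul_one, one_mul] at this
  have hN' : ∀ p, p ≠ i → ∀ q, (Matrix.transvection i j (1 : F)) p q = (1 : Matrix (Fin n) (Fin n) F) p q := by
    intro p hp q
    have := Matrix.transvection_mul_apply_of_ne i j p q hp (1 : F) (1 : Matrix (Fin n) (Fin n) F)
    rwa [Matrix.mul_one] at this
  have hM : ∀ q, (Matrix.transvection j i (-1 : F) * Matrix.transvection i j (1 : F) :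
      Matrix (Fin n) (Fin n) F) j q = - (1 : Matrix (Fin n) (Fin n) F) i q := by
    intro q
    rw [Matrix.transvection_mul_apply_same, hN, hN' j hij.symm]
    ring
  by_cases hpi : p = i
  · subst hpi
    rw [Matrix.transvection_mul_apply_same, hM, Matrix.transvection_mul_apply_of_ne _ _ _ _ hij, hN, swap_apply_left,
      Pi.mulSingle_eq_of_ne hij, Matrix.one_apply, Matrix.one_apply]
    split <;> simp
  · rw [Matrix.transvection_mul_apply_of_ne _ _ _ _ hpi]
    by_cases hpj : p = j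
    · subst hpj
      rw [hM, swap_apply_right, Pi.mulSingle_eq_same, Matrix.one_apply]
      split <;> simp
    · rw [Matrix.transvection_mul_apply_of_ne _ _ _ _ hpj, hN' p hpi, swap_apply_of_ne_of_ne hpi hpj,
        Pi.mulSingle_eq_of_ne hpj, Matrix.one_apply]
      split <;> simp

theorem mem_of_mon {X : Type*} {s : Fin n → X} {E : Subgroup (Matrix.SpecialLinearGroup (Fin n) F)}
    (hdiag : ∀ (x : Matrix.SpecialLinearGroup (Fin n) F) (t : Fin n → Fˣ),
      Matrix.SpecialLinearGroup.toGL x = dgl t → x ∈ E)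
    (htv : ∀ (i j : Fin n) (hij : i ≠ j) (c : F), s i = s j → tv hij c ∈ E) {σ : Perm (Fin n)}
    (hσ : ∀ i, s (σ i) = s i) {x : Matrix.SpecialLinearGroup (Fin n) F} {d : Fin n → Fˣ}
    (hx : Matrix.SpecialLinearGroup.toGL x = mon d σ) : x ∈ E := by
  classical
  let H : Subgroup (Perm (Fin n)) :=
    { carrier := {τ | ∃ (d : Fin n → Fˣ) (y : Matrix.SpecialLinearGroup (Fin n) F), y ∈ E ∧
        Matrix.SpecialLinearGroup.toGL y = mon d τ}
      one_mem' := ⟨fun _ => 1, 1, one_mem _, by rw [mon_one, map_one]⟩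
      mul_mem' := by
        rintro a a' ⟨d, y, hy, h⟩ ⟨d', y', hy', h'⟩
        exact ⟨_, y * y', mul_mem hy hy', by rw [map_mul, h, h', mon_mul]⟩
      inv_mem' := by
        rintro a ⟨d, y, hy, h⟩
        exact ⟨_, y⁻¹, inv_mem hy, by rw [map_inv, h, mon_inv]⟩ }
  let T : Set (Perm (Fin n)) := {τ | ∃ i j, i ≠ j ∧ s i = s j ∧ τ = swap i j}
  have hTH : closure T ≤ H := by
    rw [closure_le]
    rintro _ ⟨i, j, hij, hs, rfl⟩
    exact ⟨_, _, mul_mem (htv i j hij 1 hs) (mul_mem (htv j i hij.symm (-1) hs.symm) (htv i j hij 1 hs)),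
      toGL_weyl hij⟩
  have hmem : σ ∈ closure T := by
    rw [mem_closure_isSwap]
    · refine ⟨Set.toFinite _, fun i => ?_⟩
      by_cases h : σ i = i
      · rw [h]
        exact MulAction.mem_orbit_self i
      · exact ⟨⟨swap i (σ i), subset_closure ⟨i, σ i, Ne.symm h, (hσ i).symm, rfl⟩⟩, swap_apply_left i (σ i)⟩
    · rintro _ ⟨i, j, hij, -, rfl⟩
      exact ⟨i, j, hij, rfl⟩
  obtain ⟨d', y, hy, hyσ⟩ := hTH hmem
  have h1 : x * y⁻¹ ∈ E := by
    refine hdiag _ (fun i => d i * (d' i)⁻¹) ?_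
    rw [map_mul, map_inv, hx, hyσ]
    have e : (fun i => d i * (d' i)⁻¹) = d * d'⁻¹ := rfl
    unfold mon
    rw [e, map_mul, map_inv, _root_.mul_inv_rev]
    group
  have h2 : x = x * y⁻¹ * y := by group
  rw [h2]
  exact mul_mem h1 hy

end

end Cfsg.Agent.H755.Sd
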